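import Groth.Agent.EtCoh.K215.HStrict
import Groth.Agent.Sga4h.StalkAcyc
import Groth.Agent.Sga4h.LocCohLES
import Groth.Agent.Sga4B.PureStmt
import Groth.Agent.S0101
import Groth.Agent.S15764

/-!
# Vanishing of `H^i(Spec R((t)), Z/n)` for `i ≥ 2`, `R` strictly henselian local, `n` invertible in `R`
-/

set_option autoImplicit false
open CategoryTheory CategoryTheory.Limits AlgebraicGeometry IsLocalRing Opposite
open scoped Polynomial
universe u

namespace Groth.Agent.EtCoh.K215.ConstVan

open Groth.Agent.Etrest.StrictLoc Groth.Agent.Sga4B Groth.Agent.EtCoh.K215.HStrict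

/-- The open immersion `D(x) → Spec A`. -/
noncomputable abbrev jX (A : Type u) [CommRing A] (x : A) :
    Spec (CommRingCat.of (Localization.Away x)) ⟶ Spec (CommRingCat.of A) :=
  spm (algebraMap A (Localization.Away x))

instance (A : Type u) [CommRing A] (x : A) : IsOpenImmersion (jX A x) :=
  IsOpenImmersion.of_isLocalization x

theorem range_jX (A : Type u) [CommRing A] (x : A) :
    Set.range (jX A x) = (PrimeSpectrum.basicOpen x : Set (PrimeSpectrum A)) :=
  PrimeSpectrum.localization_away_comap_range _ x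

theorem range_zero (R : Type u) [CommRing R] :
    (Set.range (Spec.map (CommRingCat.ofHom (Polynomial.evalRingHom (0 : R)))))ᶜ =
      (PrimeSpectrum.basicOpen (Polynomial.X : R[X]) : Set (PrimeSpectrum R[X])) := by
  have h1 : Function.Surjective (Polynomial.evalRingHom (0 : R)) := fun r => ⟨Polynomial.C r, by simp⟩
  have h2 : Set.range (PrimeSpectrum.comap (Polynomial.evalRingHom (0 : R))) =
      PrimeSpectrum.zeroLocus (RingHom.ker (Polynomial.evalRingHom (0 : R)) : Set R[X]) :=
    _root_.range_comap_of_surjective _ _ h1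
  have h3 : RingHom.ker (Polynomial.evalRingHom (0 : R)) = Ideal.span {(Polynomial.X : R[X])} := by
    ext p
    rw [RingHom.mem_ker, Ideal.mem_span_singleton, Polynomial.X_dvd_iff, Polynomial.coe_evalRingHom,
      Polynomial.coeff_zero_eq_eval_zero]
  change (Set.range (PrimeSpectrum.comap (Polynomial.evalRingHom (0 : R))))ᶜ = _
  rw [h2, h3, PrimeSpectrum.zeroLocus_span, PrimeSpectrum.basicOpen_eq_zeroLocus_compl]

/-- Higher direct images of constant sheaves along `G_m → A^1` vanish in degrees `≥ 2`. -/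
theorem exists_isZero_Rpush (n : ℕ) [NeZero n] (hline : PureStmt.StmtLine.{u} n) (R : Type u) [CommRing R]
    (hn : IsUnit (n : R)) : ∃ (U : Scheme.{u}) (j : U ⟶ Spec (CommRingCat.of R[X])),
      IsOpenImmersion j ∧ Set.range j = (PrimeSpectrum.basicOpen (Polynomial.X : R[X]) : Set (PrimeSpectrum R[X])) ∧
      ∀ (i : ℕ), 2 ≤ i → IsZero ((EtCoh.Rpush j i).obj (EtCoh.const U (ZMod n))) := by
  obtain ⟨U, j, hj, hrange, hpure⟩ := hline R hn
  refine ⟨U, j, hj, hrange.trans (range_zero R), fun i hi => ?_⟩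
  obtain ⟨m, rfl⟩ : ∃ m, i = m + 1 + 1 := ⟨i - 2, by omega⟩
  have h1 := (hpure (ZMod n) (fun m => by rw [nsmul_eq_mul, ZMod.natCast_self, zero_mul])).1
    (m + 1 + 2) (by omega)
  have h2 := h1.of_iso (Groth.Agent.Sga4h.LocCohLES.locCohSuccIso j
    (EtCoh.const (Spec (CommRingCat.of R[X])) (ZMod n)) (m + 1))
  exact h2.of_iso ((EtCoh.Rpush j (m + 1 + 1)).mapIso (EtCore.pullConst j (ZMod n)).symm)

/-- Vanishing for the henselization. -/
theorem subsingleton_hens (n : ℕ) [NeZero n] (hline : PureStmt.StmtLine.{u} n) (R : Type u) [CommRing R]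
    [HenselianLocalRing R] [IsSepClosed (ResidueField R)] (hn : IsUnit (n : R))
    (B : Type u) [CommRing B] [Algebra R[X] B]
    (hB : Hens2.IsPairHenselization R[X] (Ideal.span {(Polynomial.X : R[X])}) B) (i : ℕ) (hi : 2 ≤ i) :
    Subsingleton (EtCoh.H (Spec (CommRingCat.of (Localization.Away (algebraMap R[X] B Polynomial.X))))
      (EtCoh.const _ (ZMod n)) i) := by
  obtain ⟨U, j, hj, hrange, hvan⟩ := exists_isZero_Rpush n hline R hn
  have hloc := HStrict.isLocalRing R B hB
  have hstrict := HStrict.isStrictLoc R B hB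
  have := hstrict.sepClosed
  -- `j` is quasi-compact
  have hqc : QuasiCompact j := by
    have h1 := range_jX R[X] Polynomial.X
    let e := IsOpenImmersion.isoOfRangeEq j (jX R[X] Polynomial.X) (hrange.trans h1.symm)
    have h2 : e.hom ≫ jX R[X] Polynomial.X = j := IsOpenImmersion.isoOfRangeEq_hom_fac _ _ _
    rw [← h2]
    infer_instance
  obtain ⟨e1⟩ := Groth.Agent.Sga4h.StalkAcyc.nonempty_stalk_iso_const j (EtCoh.const U (ZMod n)) (ZMod n)
    (Iso.refl _) hstrict i
  have h1 := AddCommGrpCat.subsingleton_of_isZero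
    ((((EtCoh.stalk (resPt B ≫ spm (algebraMap R[X] B))).map_isZero (hvan i hi))).of_iso e1.symm)
  -- identification of the pullback
  have h2 : Set.range (pullback.snd j (spm (algebraMap R[X] B))) =
      Set.range (jX B (algebraMap R[X] B Polynomial.X)) := by
    rw [IsOpenImmersion.range_pullbackSnd, range_jX]
    change (spm (algebraMap R[X] B)) ⁻¹' (Set.range j) = _
    rw [hrange]
    rfl
  let e2 := IsOpenImmersion.isoOfRangeEq _ _ h2
  obtain ⟨e3⟩ := Groth.Agent.Etrest.HConstIso.nonempty_HConst e2 (ZMod n) i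
  have h3 : Subsingleton (EtCoh.H (pullback j (spm (algebraMap R[X] B)))
    (EtCoh.const (pullback j (spm (algebraMap R[X] B))) (ZMod n)) i) := h1
  exact e3.toEquiv.subsingleton

/-- **Vanishing of the cohomology of constant sheaves on `Spec R((t))`.** -/
theorem subsingleton_const (n : ℕ) [NeZero n] (hline : PureStmt.StmtLine.{u} n) (R : Type u) [CommRing R]
    [HenselianLocalRing R] [IsSepClosed (ResidueField R)] (hn : IsUnit (n : R)) (i : ℕ) (hi : 2 ≤ i) :
    Subsingleton (EtCoh.H (Spec (CommRingCat.of (LaurentSeries R)))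
      (EtCoh.const (Spec (CommRingCat.of (LaurentSeries R))) (ZMod n)) i) := by
  obtain ⟨B, _, _, hB⟩ := Groth.Agent.S2051.result R[X] (Ideal.span {(Polynomial.X : R[X])})
  obtain ⟨ψ, -⟩ := exists_psi R B hB
  have hu : IsUnit ((HahnSeries.ofPowerSeries ℤ R).comp ψ.toRingHom (algebraMap R[X] B Polynomial.X)) := by
    have h1 : ψ.toRingHom (algebraMap R[X] B Polynomial.X) = PowerSeries.X := by
      change ψ (algebraMap R[X] B Polynomial.X) = _
      rw [AlgHom.commutes]
      exact Polynomial.coe_X
    rw [RingHom.comp_apply, h1, HahnSeries.ofPowerSeries_X]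
    refine IsUnit.of_mul_eq_one (HahnSeries.single (-1) 1) ?_
    rw [HahnSeries.single_mul_single, mul_one, add_neg_cancel]
    rfl
  let χ : Localization.Away (algebraMap R[X] B Polynomial.X) →+* LaurentSeries R :=
    IsLocalization.Away.lift (algebraMap R[X] B Polynomial.X) hu
  have hχ : χ.comp (algebraMap B (Localization.Away (algebraMap R[X] B Polynomial.X))) =
      (HahnSeries.ofPowerSeries ℤ R).comp ψ.toRingHom := IsLocalization.Away.lift_comp _ hu
  have : PreservesFiniteLimits (EtCoh.pull (Spec.map (CommRingCat.ofHom χ))) :=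
    Groth.Agent.S0101.result _
  have htors : EtCoh.IsTorsion (EtCoh.const
      (Spec (CommRingCat.of (Localization.Away (algebraMap R[X] B Polynomial.X)))) (ZMod n)) :=
    Etrest.ConstBasic.isTorsion_of_killedBy (NeZero.pos n)
      (Etrest.ConstBasic.killedBy_const _ (ZMod n) n fun m => by
        rw [nsmul_eq_mul, ZMod.natCast_self, zero_mul])
  have h1 := Groth.Agent.S15764.result R B hB ψ χ hχ _ htors i
  have h2 := subsingleton_hens n hline R hn B hB i hi
  have h3 : Subsingleton (EtCoh.H (Spec (CommRingCat.of (LaurentSeries R)))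
      ((EtCoh.pull (Spec.map (CommRingCat.ofHom χ))).obj (EtCoh.const _ (ZMod n))) i) :=
    h1.2.subsingleton
  have : Subsingleton ((EtCoh.HF (Spec (CommRingCat.of (LaurentSeries R))) i).obj
      ((EtCoh.pull (Spec.map (CommRingCat.ofHom χ))).obj (EtCoh.const _ (ZMod n)))) := h3
  exact ((EtCoh.HF _ i).mapIso
    (EtCore.pullConst (Spec.map (CommRingCat.ofHom χ)) (ZMod n))).addCommGroupIsoToAddEquiv.toEquiv.symm.subsingleton

end Groth.Agent.EtCoh.K215.ConstVan
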