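import Groth.Agent.EtpbcA.ConsVan
import Groth.Agent.EtpbcA.SubSheaf
import Mathlib.Algebra.Homology.ShortComplex.Ab
import Mathlib.CategoryTheory.Abelian.Images

/-!
# Abelian sheaves constant over an object of the small etale site, in terms of sections
-/

set_option autoImplicit false
universe u
open CategoryTheory CategoryTheory.Limits AlgebraicGeometry Opposite

namespace Groth.Agent.EtCoh.K215.CstAb

open Groth.Agent.EtpbcA Groth.Agent.EtpbcA.ConsVan Groth.Agent.EtpbcA.StalkTools

variable {X : Scheme.{u}}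

/-- `F` is constant over `V`, with value its sections over `V`. -/
structure CstV (F : EtCoh.Ab X) (V : X.Etale) : Prop where
  inj : ∀ (x : V.left) (s : EtCoh.sect F V), Van F s x → s = 0
  surj : ∀ (W : X.Etale) (g : W ⟶ V) (w : W.left) (t : EtCoh.sect F W),
    ∃ s : EtCoh.sect F V, Van F (t - res F g s) w

/-- Evaluation. -/
noncomputable abbrev ev {F G : EtCoh.Ab X} (α : F ⟶ G) (U : X.Etale) :
    EtCoh.sect F U →+ EtCoh.sect G U := (α.hom.app (op U)).hom

theorem res_ev {F G : EtCoh.Ab X} (α : F ⟶ G) {U V : X.Etale} (g : V ⟶ U) (s : EtCoh.sect F U) :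
    res G g (ev α U s) = ev α V (res F g s) := res_naturality α g s

theorem ev_inj {F G : EtCoh.Ab X} (α : F ⟶ G) [Mono α] (U : X.Etale) : Function.Injective (ev α U) :=
  SubSheaf.injective_app_of_mono α U

theorem van_ev_iff {F G : EtCoh.Ab X} (α : F ⟶ G) [Mono α] {U : X.Etale} (s : EtCoh.sect F U)
    (x : U.left) : Van G (ev α U s) x ↔ Van F s x := by
  constructor
  · rintro ⟨V, g, v, hv, h⟩
    refine ⟨V, g, v, hv, ev_inj α V ?_⟩
    rw [← res_ev, h, map_zero]
  · exact fun h => h.map α

/-- Constancy of a subsheaf. -/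
theorem CstV.of_mono {F G : EtCoh.Ab X} (α : F ⟶ G) [Mono α] {V : X.Etale} (h : CstV G V)
    (H : ∀ (W : X.Etale) (g : W ⟶ V) (w : W.left) (t : EtCoh.sect F W) (s : EtCoh.sect G V),
      Van G (ev α W t - res G g s) w → ∃ s' : EtCoh.sect F V, ev α V s' = s) : CstV F V where
  inj x s hs := by
    apply ev_inj α V
    rw [map_zero]
    exact h.inj x _ ((van_ev_iff α s x).2 hs)
  surj W g w t := by
    obtain ⟨s, hs⟩ := h.surj W g w (ev α W t)
    obtain ⟨s', rfl⟩ := H W g w t s hs
    refine ⟨s', ?_⟩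
    rw [← van_ev_iff α, map_sub, ← res_ev]
    exact hs

/-- Sections of a kernel. -/
theorem exists_of_ev_eq_zero {F G : EtCoh.Ab X} (α : F ⟶ G) (V : X.Etale) (s : EtCoh.sect F V)
    (hs : ev α V s = 0) : ∃ s' : EtCoh.sect (kernel α) V, ev (kernel.ι α) V s' = s := by
  let E : EtCoh.Ab X ⥤ AddCommGrpCat.{u + 1} :=
    sheafToPresheaf X.smallEtaleTopology AddCommGrpCat.{u + 1} ⋙ (evaluation _ _).obj (op V)
  let S : ShortComplex (EtCoh.Ab X) := ShortComplex.mk (kernel.ι α) α (kernel.condition α)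
  have h1 : S.Exact := ShortComplex.exact_kernel α
  have : Mono S.f := inferInstanceAs (Mono (kernel.ι α))
  have : PreservesFiniteLimits E := inferInstance
  have : E.Additive := Functor.additive_of_preserves_binary_products _
  have h2 : (S.map E).Exact := h1.map_of_mono_of_preservesKernel E inferInstance inferInstance
  rw [ShortComplex.ab_exact_iff] at h2
  exact h2 s hs

variable {F : EtCoh.Ab X}

theorem ev_nsmul_id (n : ℕ) (V : X.Etale) (s : EtCoh.sect F V) : ev (n • 𝟙 F) V s = n • s := by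
  induction n with
  | zero => rw [zero_smul, zero_smul]; rfl
  | succ n ih => rw [add_smul, add_smul, one_smul, one_smul, ← ih]; rfl

/-- Vanishing through multiplication. -/
theorem Van.nsmul {V : X.Etale} {s : EtCoh.sect F V} {x : V.left} (n : ℕ) (h : Van F s x) :
    Van F (n • s) x := by
  obtain ⟨W, g, w, hw, h1⟩ := h
  exact ⟨W, g, w, hw, by rw [map_nsmul, h1, smul_zero]⟩

/-- The `n`-torsion and the image of multiplication by `n`. -/
theorem exists_shortExact {V : X.Etale} (h : CstV F V) (hfin : Finite (EtCoh.sect F V)) (ℓ m : ℕ)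
    (hF : EtCoh.KilledBy (ℓ * m) F) :
    ∃ (S : ShortComplex (EtCoh.Ab X)) (_ : S.ShortExact) (_ : S.X₂ ≅ F), EtCoh.KilledBy ℓ S.X₁ ∧
      EtCoh.KilledBy m S.X₃ ∧ CstV S.X₁ V ∧ CstV S.X₃ V ∧ Finite (EtCoh.sect S.X₁ V) ∧
      Finite (EtCoh.sect S.X₃ V) := by
  let α : F ⟶ F := ℓ • 𝟙 F
  let e := Abelian.factorThruImage α
  let m' := Abelian.image.ι α
  have hem : e ≫ m' = α := Abelian.image.fac α
  have hev : ∀ (W : X.Etale) (s : EtCoh.sect F W), ev m' W (ev e W s) = ℓ • s := by
    intro W s
    rw [← ev_nsmul_id]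
    change ev (e ≫ m') W s = ev (ℓ • 𝟙 F) W s
    rw [hem]
  let S : ShortComplex (EtCoh.Ab X) := ShortComplex.mk (kernel.ι e) e (kernel.condition e)
  have hS : S.ShortExact :=
    { exact := ShortComplex.exact_kernel e
      mono_f := inferInstanceAs (Mono (kernel.ι e))
      epi_g := inferInstanceAs (Epi e) }
  have hk1 : ∀ (W : X.Etale) (s : EtCoh.sect (kernel e) W), ℓ • ev (kernel.ι e) W s = 0 := by
    intro W s
    rw [← hev]
    have h1 : ev e W (ev (kernel.ι e) W s) = 0 := by
      change ev (kernel.ι e ≫ e) W s = 0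
      rw [kernel.condition]
      rfl
    rw [h1, map_zero]
  have hk2 : ∀ (W : X.Etale) (s : EtCoh.sect (Abelian.image α) W), m • ev m' W s = 0 := by
    intro W s
    apply eq_zero_of_van
    intro x
    obtain ⟨W', g, w, hw, t, ht⟩ := (epi_iff_locIm e).1 inferInstance W s x
    refine ⟨W', g, w, hw, ?_⟩
    have h1 : res F g (ev m' W s) = ℓ • t := by
      rw [res_ev, ← hev]
      congr 1
      exact ht.symm
    rw [map_nsmul, h1, ← mul_smul, mul_comm m ℓ]
    exact hF W' t
  have hc1 : CstV (kernel e) V := by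
    refine h.of_mono (kernel.ι e) fun W g w t s hs => exists_of_ev_eq_zero e V s ?_
    apply ev_inj m'
    rw [map_zero, hev]
    apply h.inj (g.left w)
    have h1 : Van F (ℓ • res F g s) w := by
      have h2 := Van.nsmul ℓ hs
      rw [smul_sub, hk1, zero_sub] at h2
      have h3 := h2.neg
      rwa [neg_neg] at h3
    rw [← map_nsmul] at h1
    exact h1.of_res
  have hc3 : CstV (Abelian.image α) V := by
    refine h.of_mono m' fun W g w t s hs => ?_
    obtain ⟨W', g', w', hw', u, hu⟩ := (epi_iff_locIm e).1 inferInstance W t w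
    obtain ⟨s₁, hs₁⟩ := h.surj W' (g' ≫ g) w' u
    refine ⟨ev e V s₁, ?_⟩
    rw [hev, ← sub_eq_zero]
    apply h.inj (g.left w)
    have h1 : res F g' (ev m' W t) = ℓ • u := by
      rw [res_ev, ← hev]
      congr 1
      exact hu.symm
    have h2 : Van F (res F g' (ev m' W t - res F g s)) w' := by
      apply Van.res
      rw [hw']
      exact hs
    rw [map_sub, h1, ← res_comp] at h2
    have h3 := Van.nsmul ℓ hs₁
    rw [smul_sub, ← map_nsmul] at h3
    have h4 := h3.neg.add h2
    rw [neg_sub, sub_add_sub_cancel, ← map_sub] at h4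
    have h5 := h4.of_res
    have h6 : (g' ≫ g).left w' = g.left w := by
      change (g'.left ≫ g.left) w' = _
      rw [Scheme.Hom.comp_apply, hw']
    rwa [h6] at h5
  refine ⟨S, hS, Iso.refl _, ?_, ?_, hc1, hc3, ?_, ?_⟩
  · intro W s
    apply ev_inj (kernel.ι e) W
    rw [map_nsmul, map_zero]
    exact hk1 W s
  · intro W s
    apply ev_inj m' W
    rw [map_nsmul, map_zero]
    exact hk2 W s
  · exact Finite.of_injective _ (ev_inj (kernel.ι e) V)
  · exact Finite.of_injective _ (ev_inj m' V)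

end Groth.Agent.EtCoh.K215.CstAb
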