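import Mathlib.RingTheory.LaurentSeries
import Mathlib.RingTheory.Noetherian.Nilpotent
import Mathlib.RingTheory.Idempotents
import Groth.Agent.Sga3A.GeomConn

/-!
# The spectrum of the Laurent series over a local ring is connected
-/

set_option autoImplicit false
universe u

namespace Groth.Agent.EtCoh.K215.LConn

variable {R : Type u} [CommRing R]

theorem coeff_mul_mem (I J : Ideal R) (x y : LaurentSeries R) (hx : ∀ n, x.coeff n ∈ I)
    (hy : ∀ n, y.coeff n ∈ J) (n : ℤ) : (x * y).coeff n ∈ I * J := by
  rw [HahnSeries.coeff_mul]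
  exact Ideal.sum_mem _ fun ij _ => Ideal.mul_mem_mul (hx _) (hy _)

theorem coeff_pow_mem (I : Ideal R) (x : LaurentSeries R) (hx : ∀ n, x.coeff n ∈ I) (k : ℕ) (n : ℤ) :
    (x ^ (k + 1)).coeff n ∈ I ^ (k + 1) := by
  induction k generalizing n with
  | zero => simpa using hx n
  | succ k ih =>
    rw [pow_succ x, pow_succ I]
    exact coeff_mul_mem _ _ _ _ ih hx n

/-- The support of a Laurent series is bounded below. -/
theorem exists_bound (x : LaurentSeries R) : ∃ N : ℕ, ∀ n : ℤ, n < -N → x.coeff n = 0 := by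
  refine ⟨x.order.natAbs, fun n hn => ?_⟩
  by_cases hx : x = 0
  · rw [hx]
    rfl
  · apply HahnSeries.coeff_eq_zero_of_lt_order
    omega

/-- An idempotent Laurent series with nilpotent coefficients is zero. -/
theorem eq_zero_of_nilpotent (e : LaurentSeries R) (he : e * e = e)
    (hn : ∀ n, IsNilpotent (e.coeff n)) : e = 0 := by
  obtain ⟨N, hN⟩ := exists_bound e
  classical
  let s : Finset R := (Finset.Icc (-(N : ℤ)) 0).image e.coeff
  let I : Ideal R := Ideal.span (s : Set R)
  have h1 : ∀ n : ℤ, n ≤ 0 → e.coeff n ∈ I := by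
    intro n hn0
    by_cases h : n < -N
    · rw [hN n h]
      exact I.zero_mem
    · refine Ideal.subset_span ?_
      rw [Finset.mem_coe, Finset.mem_image]
      exact ⟨n, Finset.mem_Icc.2 ⟨by omega, hn0⟩, rfl⟩
  have h2 : ∀ m : ℕ, ∀ n : ℤ, n ≤ m → e.coeff n ∈ I := by
    intro m
    induction m with
    | zero => exact fun n hn => h1 n (by simpa using hn)
    | succ m ih =>
      intro n hnm
      by_cases hnm' : n ≤ m
      · exact ih n hnm'
      by_cases hn0 : n ≤ 0
      · exact h1 n hn0
      rw [← he, HahnSeries.coeff_mul]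
      refine Ideal.sum_mem _ fun ij hij => ?_
      rw [Finset.mem_antidiagonal] at hij
      by_cases h3 : ij.1 ≤ 0
      · exact Ideal.mul_mem_right _ _ (h1 _ h3)
      · exact Ideal.mul_mem_left _ _ (ih _ (by push_cast at *; omega))
  have h3 : ∀ n : ℤ, e.coeff n ∈ I := fun n => h2 n.natAbs n (by omega)
  have h4 : IsNilpotent I := by
    have hfg : I.FG := ⟨s, rfl⟩
    rw [Ideal.FG.isNilpotent_iff_le_nilradical hfg, Ideal.span_le]
    intro x hx
    rw [Finset.mem_coe, Finset.mem_image] at hx
    obtain ⟨n, -, rfl⟩ := hx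
    exact hn n
  obtain ⟨k, hk⟩ := h4
  have h5 : ∀ k : ℕ, e ^ (k + 1) = e := by
    intro k
    induction k with
    | zero => rw [zero_add, pow_one]
    | succ k ih => rw [pow_succ, ih, he]
  ext n
  have h6 := coeff_pow_mem I e h3 k n
  rw [h5, pow_succ, hk, zero_mul] at h6
  exact h6

/-- Reduction of Laurent series. -/
noncomputable def red (p : Ideal R) (x : LaurentSeries R) : LaurentSeries (R ⧸ p) :=
  x.map (Ideal.Quotient.mk p)

theorem red_mul (p : Ideal R) (x y : LaurentSeries R) : red p (x * y) = red p x * red p y :=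
  HahnSeries.map_mul (Ideal.Quotient.mk p : R →ₙ+* R ⧸ p)

theorem coeff_red (p : Ideal R) (x : LaurentSeries R) (n : ℤ) :
    (red p x).coeff n = Ideal.Quotient.mk p (x.coeff n) := rfl

/-- Idempotents in the Laurent series over a local ring. -/
theorem idem [IsLocalRing R] (e : LaurentSeries R) (he : e * e = e) : e = 0 ∨ e = 1 := by
  have key : ∀ p : Ideal R, p.IsPrime → red p e = 0 ∨ red p e = 1 := by
    intro p hp
    have h1 : red p e * red p e = red p e := by rw [← red_mul, he]
    have h2 : red p e * (red p e - 1) = 0 := by rw [mul_sub, h1, mul_one, sub_self]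
    rcases mul_eq_zero.1 h2 with h | h
    · exact Or.inl h
    · exact Or.inr (sub_eq_zero.1 h)
  have h0 : ∀ n : ℤ, n ≠ 0 → IsNilpotent (e.coeff n) := by
    intro n hn
    rw [nilpotent_iff_mem_prime]
    intro p hp
    rw [← Ideal.Quotient.eq_zero_iff_mem, ← coeff_red]
    rcases key p hp with h | h
    · rw [h]
      rfl
    · rw [h, HahnSeries.coeff_one, if_neg hn]
  have h1 : IsNilpotent (e.coeff 0 * (1 - e.coeff 0)) := by
    rw [nilpotent_iff_mem_prime]
    intro p hp
    rw [← Ideal.Quotient.eq_zero_iff_mem, map_mul, map_sub, map_one, ← coeff_red]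
    rcases key p hp with h | h
    · rw [h, HahnSeries.coeff_zero, zero_mul]
    · rw [h, HahnSeries.coeff_one, if_pos rfl, sub_self, mul_zero]
  rcases IsLocalRing.isUnit_or_isUnit_one_sub_self (e.coeff 0) with h | h
  · right
    have h2 : IsNilpotent (1 - e.coeff 0) := by
      obtain ⟨k, hk⟩ := h1
      refine ⟨k, ?_⟩
      rw [mul_pow] at hk
      exact (h.pow k).mul_right_eq_zero.1 hk
    have h3 : 1 - e = 0 := by
      refine eq_zero_of_nilpotent _ ?_ fun n => ?_
      · rw [mul_sub, sub_mul, sub_mul, he]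
        ring
      · by_cases hn : n = 0
        · subst hn
          rw [HahnSeries.coeff_sub, HahnSeries.coeff_one, if_pos rfl]
          exact h2
        · rw [HahnSeries.coeff_sub, HahnSeries.coeff_one, if_neg hn, zero_sub]
          exact (h0 n hn).neg
    exact (sub_eq_zero.1 h3).symm
  · left
    refine eq_zero_of_nilpotent e he fun n => ?_
    by_cases hn : n = 0
    · subst hn
      obtain ⟨k, hk⟩ := h1
      refine ⟨k, ?_⟩
      rw [mul_pow] at hk
      exact (h.pow k).mul_left_eq_zero.1 hk
    · exact h0 n hn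

instance nontrivial [Nontrivial R] : Nontrivial (LaurentSeries R) := inferInstance

theorem connectedSpace [IsLocalRing R] : ConnectedSpace (PrimeSpectrum (LaurentSeries R)) :=
  Groth.Agent.Sga3A.GeomConn.connectedSpace_of_idempotents _ fun e he => idem e he

end Groth.Agent.EtCoh.K215.LConn
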