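import Groth.Agent.EtCoh.K215.LEmb
import Groth.Agent.EtCoh.K215.LConn
import Groth.Agent.Fixpt.H628.SylGeo

/-!
# The covering `t ↦ t ^ N` of the punctured formal disc over a strictly henselian local ring
-/

set_option autoImplicit false
universe u

open CategoryTheory CategoryTheory.Limits AlgebraicGeometry
open Groth.Agent.EtCoh.K215.LKum Groth.Agent.EtCoh.K215.LEmb
open Groth.Agent.Fixpt.H628.SylGeo Groth.Agent.Fixpt.H628.SylRing

namespace Groth.Agent.EtCoh.K215.LGal

/-- The punctured formal disc. -/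
noncomputable abbrev Z (R : Type u) [CommRing R] : Scheme.{u} := Spec (CommRingCat.of (LaurentSeries R))

/-- The covering `t ↦ t ^ N`. -/
noncomputable abbrev phi (R : Type u) [CommRing R] (N : ℕ) (hN : 0 < N) : Z R ⟶ Z R :=
  Spec.map (CommRingCat.ofHom (emb R N hN))

section gen

variable {A B : Type u} [CommRing A] [CommRing B] [Algebra A B] {N : ℕ} {u : A} {b : B}

theorem gen_finite (h : IsKum A B N u b) : (algebraMap A B).Finite := by
  rw [RingHom.finite_algebraMap]
  exact h.free.2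

theorem gen_flat (h : IsKum A B N u b) : (algebraMap A B).Flat := by
  have := h.free.1
  rw [RingHom.flat_algebraMap_iff]
  infer_instance

theorem gen_etale (h : IsKum A B N u b) (hu : IsUnit u) (hN : IsUnit (N : A)) :
    (algebraMap A B).Etale := by
  rw [RingHom.etale_algebraMap]
  exact h.etale hu hN

theorem gen_finrank [Nontrivial A] (h : IsKum A B N u b) (s : PrimeSpectrum A) :
    (Spec.map (CommRingCat.ofHom (algebraMap A B))).finrank s = N := by
  have h1 := h.free.1
  have h2 := h.free.2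
  rw [Scheme.Hom.finrank_SpecMap_algebraMap, Module.rankAtStalk_eq_finrank_of_free]
  exact h.finrank

theorem gen_gal {R : Type u} [CommRing R] (ρ : R →+* A)
    (h : IsKum A B N u b) (hu : IsUnit u) (ζ : Rˣ) (hζ : ζ ^ N = 1)
    (hζu : ∀ i : ℕ, 0 < i → i < N → IsUnit ((ζ : R) ^ i - 1)) :
    IsGalHomGrp (Spec.map (CommRingCat.ofHom (algebraMap A B))) (Subgroup.zpowers ζ) := by
  let _ : Algebra R A := ρ.toAlgebra
  let _ : Algebra R B := ((algebraMap A B).comp ρ).toAlgebra
  have : IsScalarTower R A B := IsScalarTower.of_algebraMap_eq fun _ => rfl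
  exact isGalHomGrp_spec _ _ _ (h.isGalGrp hu ζ hζ hζu)

end gen

variable (R : Type u) [CommRing R] (N : ℕ) (hN : 0 < N)

theorem finite : (emb R N hN).Finite :=
  @gen_finite _ _ _ _ (emb R N hN).toAlgebra _ _ _ (isKum (R := R) N hN)

theorem flat : (emb R N hN).Flat :=
  @gen_flat _ _ _ _ (emb R N hN).toAlgebra _ _ _ (isKum (R := R) N hN)

theorem etale (hNR : IsUnit (N : R)) : (emb R N hN).Etale :=
  @gen_etale _ _ _ _ (emb R N hN).toAlgebra _ _ _ (isKum (R := R) N hN) isUnit_T (isUnit_natCast N hNR)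

instance isFinite_phi : IsFinite (phi R N hN) := (IsFinite.SpecMap_iff _).2 (finite R N hN)

instance flat_phi : Flat (phi R N hN) := Flat.SpecMap_iff.2 (flat R N hN)

theorem etale_phi (hNR : IsUnit (N : R)) : Etale (phi R N hN) := by
  rw [HasRingHomProperty.Spec_iff (P := @Etale)]
  exact etale R N hN hNR

theorem finrank_phi [Nontrivial R] (s : Z R) : (phi R N hN).finrank s = N :=
  @gen_finrank _ _ _ _ (emb R N hN).toAlgebra _ _ _ _ (isKum (R := R) N hN) s

theorem surjective_phi [Nontrivial R] : Surjective (phi R N hN) := by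
  rw [← Scheme.Hom.one_le_finrank_iff_surjective]
  intro s
  rw [finrank_phi]
  exact hN

theorem isGalHomGrp_phi (ζ : Rˣ) (hζ : ζ ^ N = 1)
    (hζu : ∀ i : ℕ, 0 < i → i < N → IsUnit ((ζ : R) ^ i - 1)) :
    IsGalHomGrp (phi R N hN) (Subgroup.zpowers ζ) :=
  @gen_gal _ _ _ _ (emb R N hN).toAlgebra _ _ _ R _ HahnSeries.C (isKum (R := R) N hN) isUnit_T ζ hζ hζu

instance connectedSpace [IsLocalRing R] : ConnectedSpace (Z R) := LConn.connectedSpace

theorem emb_comp (M : ℕ) (hM : 0 < M) (hMN : 0 < M * N) :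
    (emb R M hM).comp (emb R N hN) = emb R (M * N) hMN := by
  ext x n
  rw [RingHom.comp_apply]
  by_cases h : ((M * N : ℕ) : ℤ) ∣ n
  · obtain ⟨q, rfl⟩ := h
    rw [coeff_emb, Nat.cast_mul, mul_assoc, coeff_emb, coeff_emb]
  · rw [coeff_emb_of_not_dvd _ _ _ _ h]
    by_cases h1 : (M : ℤ) ∣ n
    · obtain ⟨q, rfl⟩ := h1
      rw [coeff_emb]
      apply coeff_emb_of_not_dvd
      rintro ⟨k, rfl⟩
      exact h ⟨k, by push_cast; ring⟩
    · exact coeff_emb_of_not_dvd _ _ _ _ h1

/-- The composite of `t ↦ t ^ M` and `t ↦ t ^ N`. -/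
theorem phi_comp (M : ℕ) (hM : 0 < M) (hMN : 0 < M * N) :
    phi R M hM ≫ phi R N hN = phi R (M * N) hMN := by
  rw [← Spec.map_comp, ← CommRingCat.ofHom_comp, emb_comp]

end Groth.Agent.EtCoh.K215.LGal
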