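import Groth.Agent.Fixpt.H628.GalUni
import Groth.Agent.Sga2lef.H252.ModOf
import Groth.Agent.Sga4h.NcTransferA
import Groth.Agent.EtCoh.K215.CstAb
import Groth.Agent.EtCoh.K215.LGal
import Mathlib.Algebra.Field.ULift
import Mathlib.Algebra.Field.ZMod

/-!
# Devissage of the cohomology of sheaves trivialised by `t ↦ t ^ d`
-/

set_option autoImplicit false
universe u
open CategoryTheory CategoryTheory.Limits AlgebraicGeometry Opposite Abelian
open scoped Groth.Agent.Etcore.EtInst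

namespace Groth.Agent.EtCoh.K215.Dev

open Groth.Agent.Etrest.ModAb Groth.Agent.Etcore.EtInst Groth.Agent.Etcore.HpullCalc
open Groth.Agent.Fixpt.H628.Unip Groth.Agent.Fixpt.H628.GalUni Groth.Agent.Fixpt.H628.SylGeo
open Groth.Agent.EtCoh.K215.CstAb

variable {X : Scheme.{u}}

theorem subsingleton_of_shortExact {S : ShortComplex (EtCoh.Ab X)} (hS : S.ShortExact) (i : ℕ)
    (h1 : Subsingleton (HH X S.X₁ i)) (h3 : Subsingleton (HH X S.X₃ i)) :
    Subsingleton (HH X S.X₂ i) := by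
  refine ⟨fun x y => ?_⟩
  have key : ∀ x : HH X S.X₂ i, x = 0 := by
    intro x
    obtain ⟨x₁, rfl⟩ := Ext.covariant_sequence_exact₂ _ hS x (Subsingleton.elim _ _)
    rw [Subsingleton.elim x₁ 0, Ext.zero_comp]
  rw [key x, key y]

theorem subsingleton_of_iso {F G : EtCoh.Ab X} (e : F ≅ G) (i : ℕ) (h : Subsingleton (HH X F i)) :
    Subsingleton (HH X G i) := by
  have : Subsingleton ((EtCoh.HF X i).obj F) := h
  exact ((EtCoh.HF X i).mapIso e).addCommGroupIsoToAddEquiv.toEquiv.symm.subsingleton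

theorem subsingleton_of_isZero {F : EtCoh.Ab X} (h : IsZero F) (i : ℕ) :
    Subsingleton (HH X F i) :=
  AddCommGrpCat.subsingleton_of_isZero ((EtCoh.HF X i).map_isZero h)

section uni

variable (ℓ : ℕ)

/-- The coefficients. -/
abbrev Lm : Type (u + 1) := ULift.{u + 1} (ZMod ℓ)

/-- The underlying abelian sheaf of the unit sheaf. -/
noncomputable def abUnit (X : Scheme.{u}) :
    (ab (Lm.{u} ℓ) X).obj (FixPt.unit (Lm.{u} ℓ) X) ≅ EtCoh.const X (ZMod ℓ) :=
  (constIso (Lm.{u} ℓ) X).app (ModuleCat.of (Lm.{u} ℓ) (Lm.{u} ℓ))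

theorem subsingleton_of_uni (i : ℕ) (hc : Subsingleton (HH X (EtCoh.const X (ZMod ℓ)) i)) (n : ℕ) :
    ∀ (M : EtModW.Mod (Lm.{u} ℓ) X), Uni (FixPt.unit (Lm.{u} ℓ) X) n M →
      Subsingleton (HH X ((ab (Lm.{u} ℓ) X).obj M) i) := by
  induction n with
  | zero =>
    intro M hM
    exact subsingleton_of_isZero ((ab (Lm.{u} ℓ) X).map_isZero hM) i
  | succ n ih =>
    rintro M ⟨p, hp, hM⟩
    let S : ShortComplex (EtModW.Mod (Lm.{u} ℓ) X) := ShortComplex.mk (kernel.ι p) p (kernel.condition p)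
    have hS : S.ShortExact :=
      { exact := ShortComplex.exact_kernel p
        mono_f := inferInstanceAs (Mono (kernel.ι p))
        epi_g := hp }
    exact subsingleton_of_shortExact (hS.map_of_exact (ab (Lm.{u} ℓ) X)) i (ih _ hM)
      (subsingleton_of_iso (abUnit ℓ X).symm i hc)

variable [Fact ℓ.Prime]

/-- Unipotence of abelian sheaves killed by `ℓ`. -/
theorem subsingleton_of_cstV {V Y : Scheme.{u}} (q : V ⟶ Y) [hq : AlgebraicGeometry.Etale q]
    [Surjective q] [PreconnectedSpace V] [Nonempty V] {G : Type u} [Group G] [Finite G]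
    (hG : IsPGroup ℓ G) (hgal : IsGalHomGrp q G) (F : EtCoh.Ab Y) (hF : EtCoh.KilledBy ℓ F)
    (h : CstV F (obj q)) (hfin : Finite (EtCoh.sect F (obj q))) (i : ℕ)
    (hc : Subsingleton (HH Y (EtCoh.const Y (ZMod ℓ)) i)) : Subsingleton (HH Y F i) := by
  let M : EtModW.Mod (Lm.{u} ℓ) Y := Groth.Agent.Sga2lef.H252.ModOf.mod F hF
  have e : (ab (Lm.{u} ℓ) Y).obj M ≅ F := Groth.Agent.Sga2lef.H252.ModOf.abModIso F hF
  have hfin' : Finite (EtModW.sect (Lm.{u} ℓ) M (obj q)) := hfin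
  have : Module.Finite (Lm.{u} ℓ) (EtModW.sect (Lm.{u} ℓ) M (obj q)) := inferInstance
  have : CharP (Lm.{u} ℓ) ℓ := inferInstance
  have hcst : Groth.Agent.Sga4h.LFinZero.Cst M (obj q)
      (LinearMap.id : EtModW.sect (Lm.{u} ℓ) M (obj q) →ₗ[Lm.{u} ℓ] _) := by
    intro y
    refine ⟨fun m hm => h.inj y m hm, fun W g w _ t => ?_⟩
    obtain ⟨s, hs⟩ := h.surj W g w t
    exact ⟨s, hs⟩
  have hu := uni_of_cst (Λ := Lm.{u} ℓ) q ℓ hG hgal _ M (EtModW.sect (Lm.{u} ℓ) M (obj q))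
    LinearMap.id hcst rfl
  exact subsingleton_of_iso e i (subsingleton_of_uni ℓ i hc _ M hu)

end uni

section restr

open EtShriek Groth.Agent.EtpbcA

variable {X' : Scheme.{u}} (π : X' ⟶ X) [Etale π] (F : EtCoh.Ab X)

/-- Vanishing of sections after restriction along an etale morphism. -/
theorem van_restr {W : X'.Etale} (s : EtCoh.sect ((restrAlong π).obj F) W) (x : W.left)
    (h : ConsVan.Van (U := (compEtale π).obj W) F s x) :
    ConsVan.Van ((restrAlong π).obj F) s x := by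
  obtain ⟨W₁, g, w₁, hw₁, hg⟩ := h
  have h0 : g.left ≫ W.hom ≫ π = W₁.hom := MorphismProperty.Over.w g
  have hW : EtCoh.etaleMP ((g.left ≫ W.hom) ≫ π) := by
    rw [Category.assoc, h0]; exact W₁.prop
  let W' : X'.Etale := MorphismProperty.Over.mk ⊤ (g.left ≫ W.hom)
    (EtCoh.etaleMP.of_postcomp (W' := EtCoh.etaleMP) (g.left ≫ W.hom) π inferInstance hW)
  let e : (compEtale π).obj W' ≅ W₁ := MorphismProperty.Over.isoMk (Iso.refl _)
    ((Category.id_comp W₁.hom).trans (h0.symm.trans (Category.assoc _ _ _).symm))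
  let g' : W' ⟶ W := MorphismProperty.Over.homMk g.left rfl
  have h1 : e.hom ≫ g = (compEtale π).map g' := MorphismProperty.Over.Hom.ext (Category.id_comp _)
  refine ⟨W', g', w₁, hw₁, ?_⟩
  change ConsVan.res F ((compEtale π).map g') s = 0
  rw [← h1, ConsVan.res_comp, hg, map_zero]

theorem van_of_restr {W : X'.Etale} (s : EtCoh.sect ((restrAlong π).obj F) W) (x : W.left)
    (h : ConsVan.Van ((restrAlong π).obj F) s x) :
    ConsVan.Van (U := (compEtale π).obj W) F s x := by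
  obtain ⟨W₁, g, w₁, hw₁, hg⟩ := h
  exact ⟨(compEtale π).obj W₁, (compEtale π).map g, w₁, hw₁, hg⟩

theorem cstV_restr {V' : X'.Etale} (h : CstV F ((compEtale π).obj V')) :
    CstV ((restrAlong π).obj F) V' where
  inj x s hs := h.inj x s (van_of_restr π F s x hs)
  surj W g w t := by
    obtain ⟨s, hs⟩ := h.surj ((compEtale π).obj W) ((compEtale π).map g) w t
    exact ⟨s, van_restr π F _ w hs⟩

theorem killedBy_restr {n : ℕ} (h : EtCoh.KilledBy n F) : EtCoh.KilledBy n ((restrAlong π).obj F) :=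
  fun _ s => h _ s

theorem subsingleton_of_transfer [IsFinite π] [Flat π] (d : ℕ) (hd : ∀ s : X, π.finrank s = d) (n : ℕ)
    (hn : d.Coprime n) (hF : EtCoh.KilledBy n F) (i : ℕ)
    (h : Subsingleton (HH X' ((restrAlong π).obj F) i)) : Subsingleton (HH X F i) := by
  have h1 : Subsingleton (HH X' ((EtCoh.pull π).obj F) i) :=
    subsingleton_of_iso ((OverSite.pullIsoRestr π).app F).symm i h
  refine ⟨fun x y => ?_⟩
  have key : ∀ x : HH X F i, x = 0 := fun x =>
    Groth.Agent.Sga4h.NcTransfer.eq_zero_of_hp π d hd n hn F hF i x (Subsingleton.elim _ _)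
  rw [key x, key y]

end restr

end Groth.Agent.EtCoh.K215.Dev
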