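import Groth.Agent.EtCoh.K215.CstAb
import Groth.Agent.Fixpt.H628.GalUni
import Groth.Agent.Pi1.H394.Mu
import Groth.Prelude.Def_CGrpSh

/-!
# The etale sheaf of points of a commutative finite etale group scheme split by a connected cover
-/

set_option autoImplicit false
universe u
open CategoryTheory CategoryTheory.Limits AlgebraicGeometry Opposite MonObj GrpObj

namespace Groth.Agent.EtCoh.K215.GSheaf

open Groth.Agent.Fixpt.H628.GalUni Groth.Agent.EtpbcA Groth.Agent.EtCoh.K215.CstAb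
open Groth.Agent.Etbase

variable {X : Scheme.{u}} (G : Over X) [GrpObj G] [IsCommMonObj G]

/-- The sheaf of points on the small etale site. -/
noncomputable abbrev FG : EtCoh.Ab X := (EtFppf.aPush X).obj (CGrpSh.pts Scheme.fppfPrecoverage G)

/-- The morphism attached to a section. -/
noncomputable def hm {U : X.Etale} (s : EtCoh.sect (FG G) U) : U.left ⟶ G.left :=
  ((show ULift.{u + 1} (Additive ((EtFppf.a X).obj U ⟶ G)) from s).down.toMul).left

theorem hm_w {U : X.Etale} (s : EtCoh.sect (FG G) U) : hm G s ≫ G.hom = U.hom :=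
  Over.w ((show ULift.{u + 1} (Additive ((EtFppf.a X).obj U ⟶ G)) from s).down.toMul)

/-- The section attached to a morphism. -/
noncomputable def sec {U : X.Etale} (f : U.left ⟶ G.left) (hf : f ≫ G.hom = U.hom) :
    EtCoh.sect (FG G) U :=
  (ULift.up (Additive.ofMul (Over.homMk f hf : (EtFppf.a X).obj U ⟶ G)) :
    ULift.{u + 1} (Additive ((EtFppf.a X).obj U ⟶ G)))

theorem hm_sec {U : X.Etale} (f : U.left ⟶ G.left) (hf : f ≫ G.hom = U.hom) :
    hm G (sec G f hf) = f := rfl

theorem hm_inj {U : X.Etale} {s t : EtCoh.sect (FG G) U} (h : hm G s = hm G t) : s = t := by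
  have h1 : (show ULift.{u + 1} (Additive ((EtFppf.a X).obj U ⟶ G)) from s) =
      (show ULift.{u + 1} (Additive ((EtFppf.a X).obj U ⟶ G)) from t) := by
    apply ULift.ext
    apply Additive.toMul.injective
    exact Over.OverMorphism.ext h
  exact h1

theorem hm_res {U V : X.Etale} (g : V ⟶ U) (s : EtCoh.sect (FG G) U) :
    hm G (ConsVan.res (FG G) g s) = g.left ≫ hm G s := rfl

variable {V : Scheme.{u}} (q : V ⟶ X) [hq : Etale q] [hsurj : Surjective q] [ConnectedSpace V]

theorem van_iff {U : X.Etale} (s t : EtCoh.sect (FG G) U) (x : U.left) :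
    ConsVan.Van (FG G) (s - t) x ↔ ∃ (W : X.Etale) (g : W ⟶ U) (w : W.left), g.left w = x ∧
      g.left ≫ hm G s = g.left ≫ hm G t := by
  constructor
  · rintro ⟨W, g, w, hw, h⟩
    refine ⟨W, g, w, hw, ?_⟩
    rw [map_sub, sub_eq_zero] at h
    rw [← hm_res, ← hm_res, h]
  · rintro ⟨W, g, w, hw, h⟩
    refine ⟨W, g, w, hw, ?_⟩
    rw [map_sub, sub_eq_zero]
    apply hm_inj
    rw [hm_res, hm_res, h]

variable [IsFinite G.hom] [Etale G.hom]

omit hsurj in
theorem eq_of_van (s t : EtCoh.sect (FG G) (obj q)) (x : V)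
    (h : ConsVan.Van (FG G) (s - t) (show (obj q).left from x)) : s = t := by
  obtain ⟨W, g, w, hw, h⟩ := (van_iff G s t x).1 h
  apply hm_inj
  have : Nonempty (show Scheme.{u} from W.left) := ⟨w⟩
  have hh : hm G s ≫ G.hom = hm G t ≫ G.hom := by rw [hm_w, hm_w]
  exact Groth.Agent.Pi1.H394.Mu.hom_ext_of_point G.hom (T := V) (hm G s) (hm G t) hh g.left h

variable (n : ℕ) (e : pullback G.hom q ≅ ∐ fun _ : Fin n => V)
  (he : e.hom ≫ Sigma.desc (fun _ : Fin n => 𝟙 V) = pullback.snd G.hom q)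

/-- The standard sections. -/
noncomputable def st (i : Fin n) : V ⟶ G.left :=
  Sigma.ι (fun _ : Fin n => V) i ≫ e.inv ≫ pullback.fst G.hom q

include he in
theorem inv_snd : e.inv ≫ pullback.snd G.hom q = Sigma.desc (fun _ : Fin n => 𝟙 V) := by
  rw [← he, Iso.inv_hom_id_assoc]

include he in
theorem st_w (i : Fin n) : st G q n e i ≫ G.hom = q := by
  rw [st, Category.assoc, Category.assoc, pullback.condition, ← Category.assoc e.inv, inv_snd G q n e he,
    ← Category.assoc, Sigma.ι_desc, Category.id_comp]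

/-- The standard sections. -/
noncomputable def sts (he : e.hom ≫ Sigma.desc (fun _ : Fin n => 𝟙 V) = pullback.snd G.hom q) (i : Fin n) :
    EtCoh.sect (FG G) (obj q) :=
  sec G (U := obj q) (st G q n e i) (st_w G q n e he i)

/-- Every section is locally a standard section. -/
theorem exists_local (W : X.Etale) (g : W ⟶ obj q) (w : W.left) (t : EtCoh.sect (FG G) W) :
    ∃ i, ConsVan.Van (FG G) (t - ConsVan.res (FG G) g (sts G q n e he i)) w := by
  obtain ⟨g₀, hg₀⟩ : ∃ g₀ : W.left ⟶ V, g₀ = g.left := ⟨_, rfl⟩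
  have hgq : g₀ ≫ q = W.hom := by rw [hg₀]; exact MorphismProperty.Over.w g
  obtain ⟨τ, h1, h2⟩ : ∃ τ : W.left ⟶ pullback G.hom q, τ ≫ pullback.fst _ _ = hm G t ∧
      τ ≫ pullback.snd _ _ = g₀ :=
    ⟨pullback.lift (hm G t) g₀ (by rw [hm_w, hgq]), pullback.lift_fst _ _ _, pullback.lift_snd _ _ _⟩
  obtain ⟨i, y, hy⟩ : ∃ (i : Fin n) (y : V), Sigma.ι (fun _ : Fin n => V) i y = (τ ≫ e.hom) w :=
    (sigmaOpenCover (fun _ : Fin n => V)).exists_eq ((τ ≫ e.hom) w)
  refine ⟨i, ?_⟩
  rw [van_iff]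
  let O : W.left.Opens := (τ ≫ e.hom) ⁻¹ᵁ (Sigma.ι (fun _ : Fin n => V) i).opensRange
  have hwO : w ∈ O := ⟨y, hy⟩
  refine ⟨EtGlue.opn W O, EtGlue.opnι W O, ⟨w, hwO⟩, rfl, ?_⟩
  rw [hm_res]
  change O.ι ≫ hm G t = O.ι ≫ g.left ≫ st G q n e i
  have hr : Set.range (O.ι ≫ τ ≫ e.hom) ⊆ Set.range (Sigma.ι (fun _ : Fin n => V) i) := by
    rintro _ ⟨z, rfl⟩
    have := z.2
    exact this
  obtain ⟨l, hl⟩ : ∃ l, l ≫ Sigma.ι (fun _ : Fin n => V) i = O.ι ≫ τ ≫ e.hom :=
    ⟨IsOpenImmersion.lift _ _ hr, IsOpenImmersion.lift_fac _ _ hr⟩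
  have h3 : l = O.ι ≫ g₀ := by
    have h4 := congrArg (· ≫ Sigma.desc (fun _ : Fin n => 𝟙 V)) hl
    simp only [Category.assoc, Sigma.ι_desc, Category.comp_id, he] at h4
    rw [h4, h2]
  have h6 : O.ι ≫ hm G t = (O.ι ≫ g₀) ≫ st G q n e i := by
    rw [st, ← h3, ← Category.assoc, hl, ← h1]
    simp only [Category.assoc, Iso.hom_inv_id_assoc]
  rw [h6, hg₀]
  exact Category.assoc _ _ _

include he in
theorem cstV : CstV (FG G) (obj q) where
  inj x s hs := by
    have := eq_of_van G q s 0 x (by rwa [sub_zero])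
    exact this
  surj W g w t := by
    obtain ⟨i, hi⟩ := exists_local G q n e he W g w t
    exact ⟨_, hi⟩

theorem sts_surjective : Function.Surjective (sts G q n e he) := by
  intro s
  obtain ⟨x⟩ := (inferInstance : Nonempty V)
  obtain ⟨i, hi⟩ := exists_local G q n e he (obj q) (𝟙 _) x s
  rw [ConsVan.res_id] at hi
  exact ⟨i, (eq_of_van G q s _ x hi).symm⟩

theorem sts_injective : Function.Injective (sts G q n e he) := by
  intro i j hij
  have h1 : st G q n e i = st G q n e j := congrArg (hm G) hij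
  have h2 : Sigma.ι (fun _ : Fin n => V) i ≫ e.inv = Sigma.ι (fun _ : Fin n => V) j ≫ e.inv := by
    apply pullback.hom_ext
    · rw [Category.assoc, Category.assoc]
      exact h1
    · rw [Category.assoc, Category.assoc, inv_snd G q n e he, Sigma.ι_desc, Sigma.ι_desc]
  have h3 : Sigma.ι (fun _ : Fin n => V) i = Sigma.ι (fun _ : Fin n => V) j := by
    rw [← cancel_mono e.inv]
    exact h2
  obtain ⟨x⟩ := (inferInstance : Nonempty V)
  by_contra hne
  have h4 := disjoint_opensRange_sigmaι (fun _ : Fin n => V) i j hne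
  rw [disjoint_iff] at h4
  have h5 : Sigma.ι (fun _ : Fin n => V) i x ∈ (Sigma.ι (fun _ : Fin n => V) i).opensRange ⊓
      (Sigma.ι (fun _ : Fin n => V) j).opensRange := by
    refine ⟨⟨x, rfl⟩, ⟨x, ?_⟩⟩
    rw [h3]
  rw [h4] at h5
  exact h5

include he in
theorem finite_sect : Finite (EtCoh.sect (FG G) (obj q)) :=
  Finite.of_surjective _ (sts_surjective G q n e he)

include he in
theorem nsmul_sect (s : EtCoh.sect (FG G) (obj q)) : n • s = 0 := by
  have h1 : Nat.card (EtCoh.sect (FG G) (obj q)) = n := by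
    rw [← Nat.card_congr (Equiv.ofBijective _ ⟨sts_injective G q n e he, sts_surjective G q n e he⟩),
      Nat.card_eq_fintype_card, Fintype.card_fin]
  conv_lhs => rw [← h1]
  exact card_nsmul_eq_zero'

include hsurj he in
theorem killedBy : EtCoh.KilledBy n (FG G) := by
  intro U s
  apply ConsVan.eq_zero_of_van
  intro x
  obtain ⟨v, hv⟩ := q.surjective (U.hom x)
  have hS : ConsVan.SurjAt (FG G) (AddMonoidHom.id (EtCoh.sect (FG G) (obj q)))
      (show (obj q).left from v) := by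
    intro W g w _ t
    obtain ⟨i, hi⟩ := exists_local G q n e he W g w t
    exact ⟨_, hi⟩
  obtain ⟨m, W, a, b, w, h1, -, h2⟩ := hS.exists_of_sect s x hv.symm
  refine ⟨W, a, w, h1, ?_⟩
  rw [map_nsmul, h2, ← map_nsmul]
  change ConsVan.res (FG G) b (n • m) = 0
  rw [nsmul_sect G q n e he, map_zero]

end Groth.Agent.EtCoh.K215.GSheaf
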