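import Groth.Agent.EtCoh.K215.Main
import Groth.Agent.EtCoh.K215.GSheaf
import Groth.Agent.EtCoh.K215.ConstVan
import Groth.Agent.S18315

/-!
# Vanishing of the fppf cohomology of `R((t))` with coefficients in a tame finite etale group scheme
-/

set_option autoImplicit false
universe u
open CategoryTheory CategoryTheory.Limits MonoidalCategory CartesianMonoidalCategory MonObj GrpObj AlgebraicGeometry

namespace Groth.Agent.EtCoh.K215.Final

open Groth.Agent.EtCoh.K215.LGal Groth.Agent.EtCoh.K215.LEmb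

theorem final (hline : ∀ n : ℕ, Groth.Agent.Sga4B.PureStmt.StmtLine.{u} n) (R : Type u) [CommRing R]
    [HenselianLocalRing R] [IsSepClosed (IsLocalRing.ResidueField R)]
    (d : ℕ) (hd : 0 < d) (hdu : IsUnit (d : R)) (G : Over (Z R)) [GrpObj G] [IsCommMonObj G]
    [IsFinite G.hom] [Etale G.hom] (n : ℕ) (hn : IsUnit (n : R))
    (e : pullback G.hom (phi R d hd) ≅ (∐ fun _ : Fin n => Z R))
    (he : e.hom ≫ Sigma.desc (fun _ : Fin n => 𝟙 (Z R)) = pullback.snd G.hom (phi R d hd))
    (i : ℕ) (hi : 2 ≤ i) :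
    Subsingleton (EtFppf.HF (Z R) (CGrpSh.pts Scheme.fppfPrecoverage G) i) := by
  have h1 := etale_phi R d hd hdu
  have h2 := surjective_phi R d hd
  have h3 : Subsingleton (EtCoh.H (Z R) (GSheaf.FG G) i) := by
    refine Main.main R d hd i (fun ℓ hℓ hu => ?_) hdu n hn (GSheaf.FG G)
      (GSheaf.killedBy G (phi R d hd) n e he) (GSheaf.cstV G (phi R d hd) n e he)
      (GSheaf.finite_sect G (phi R d hd) n e he)
    have : NeZero ℓ := ⟨hℓ.ne_zero⟩
    exact ConstVan.subsingleton_const ℓ (hline ℓ) R hu i hi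
  obtain ⟨e1⟩ := Groth.Agent.S18315.result (Z R) G i
  exact e1.toEquiv.symm.subsingleton

end Groth.Agent.EtCoh.K215.Final
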