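import Groth.Agent.Etrest.StrictLoc
import Groth.Agent.S1958
import Groth.Agent.S2051
import Mathlib.RingTheory.LaurentSeries
import Mathlib.RingTheory.Henselian
import Mathlib.RingTheory.AdicCompletion.Completeness
import Mathlib.FieldTheory.IsSepClosed

/-!
# The henselization of `(R[X], X)`, `R` strictly henselian local, is a strict localization of the affine line
-/

set_option autoImplicit false
open CategoryTheory CategoryTheory.Limits AlgebraicGeometry IsLocalRing
open scoped Polynomial
universe u

namespace Groth.Agent.EtCoh.K215.HStrict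

open Groth.Agent.Etrest.StrictLoc

variable (R : Type u) [CommRing R] (B : Type u) [CommRing B] [Algebra R[X] B]
  (hB : Hens2.IsPairHenselization R[X] (Ideal.span {(Polynomial.X : R[X])}) B)

include hB in
theorem henselianRing : HenselianRing B (Ideal.span {algebraMap R[X] B Polynomial.X}) := by
  have h := hB.1
  rwa [Ideal.map_span, Set.image_singleton] at h

include hB in
/-- The map `R{t} → R[[t]]`. -/
theorem exists_psi : ∃ ψ : B →ₐ[R[X]] PowerSeries R, True := by
  obtain ⟨g, hg, -⟩ := hB.2 (PowerSeries R) (Ideal.span {(PowerSeries.X : PowerSeries R)})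
    (algebraMap R[X] (PowerSeries R)) inferInstance (by
      rw [Ideal.map_span, Set.image_singleton, Ideal.span_singleton_le_span_singleton]
      have : algebraMap R[X] (PowerSeries R) Polynomial.X = PowerSeries.X := Polynomial.coe_X
      rw [this])
  exact ⟨{ g with commutes' := fun r => RingHom.congr_fun hg r }, trivial⟩

include hB in
/-- Every element of `R{t}` is a constant plus a multiple of `t`. -/
theorem exists_eq (b : B) : ∃ (r : R) (c : B), b = algebraMap R[X] B (Polynomial.C r) +
    algebraMap R[X] B Polynomial.X * c := by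
  obtain ⟨p, hp⟩ := ((Groth.Agent.S1958.result R[X] (Ideal.span {(Polynomial.X : R[X])}) B hB).2 1).2
    (Ideal.Quotient.mk _ b)
  obtain ⟨p, rfl⟩ := Ideal.Quotient.mk_surjective p
  rw [Ideal.quotientMap_mk, Ideal.Quotient.eq, pow_one, Ideal.map_span, Set.image_singleton,
    Ideal.mem_span_singleton] at hp
  obtain ⟨c, hc⟩ := hp
  have h1 : p = Polynomial.C (p.coeff 0) + Polynomial.X * p.divX := by
    rw [add_comm]
    exact (Polynomial.X_mul_divX_add p).symm
  refine ⟨p.coeff 0, algebraMap R[X] B p.divX - c, ?_⟩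
  have h2 : b = algebraMap R[X] B p - algebraMap R[X] B Polynomial.X * c := by
    rw [← hc]; ring
  rw [h2, mul_sub, ← map_mul, ← add_sub_assoc, ← map_add, ← h1]

variable {R B}

/-- A retraction onto the constants. -/
structure Ret (ρ : B →+* R) : Prop where
  const : ∀ r, ρ (algebraMap R[X] B (Polynomial.C r)) = r
  var : ρ (algebraMap R[X] B Polynomial.X) = 0

variable (R B)

include hB in
theorem exists_ret : ∃ ρ : B →+* R, Ret ρ := by
  obtain ⟨ψ, -⟩ := exists_psi R B hB
  refine ⟨(PowerSeries.constantCoeff (R := R)).comp ψ.toRingHom, ⟨fun r => ?_, ?_⟩⟩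
  · change PowerSeries.constantCoeff (ψ (algebraMap R[X] B (Polynomial.C r))) = r
    rw [AlgHom.commutes]
    change PowerSeries.constantCoeff ((Polynomial.C r : R[X]) : PowerSeries R) = r
    rw [Polynomial.coe_C, PowerSeries.constantCoeff_C]
  · change PowerSeries.constantCoeff (ψ (algebraMap R[X] B (Polynomial.X))) = 0
    rw [AlgHom.commutes]
    change PowerSeries.constantCoeff ((Polynomial.X : R[X]) : PowerSeries R) = 0
    rw [Polynomial.coe_X, PowerSeries.constantCoeff_X]

variable {R B} {ρ : B →+* R} (hρ : Ret ρ)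

include hB hρ in
theorem exists_mul_of_eq_zero (b : B) (hb : ρ b = 0) : ∃ c, b = algebraMap R[X] B Polynomial.X * c := by
  obtain ⟨r, c, rfl⟩ := exists_eq R B hB b
  rw [map_add, map_mul, hρ.const, hρ.var, zero_mul, add_zero] at hb
  exact ⟨c, by rw [hb, map_zero, map_zero, zero_add]⟩

include hB hρ in
theorem isUnit_of_isUnit (b : B) (hb : IsUnit (ρ b)) : IsUnit b := by
  obtain ⟨v, hv⟩ := hb
  have h1 : ρ (b * algebraMap R[X] B (Polynomial.C (v⁻¹ : Rˣ).1) - 1) = 0 := by
    rw [map_sub, map_mul, hρ.const, ← hv, Units.mul_inv, map_one, sub_self]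
  obtain ⟨c, hc⟩ := exists_mul_of_eq_zero hB hρ _ h1
  have h2 := (henselianRing R B hB).jac (Ideal.mem_span_singleton_self _)
  rw [Ideal.mem_jacobson_bot] at h2
  have h3 := h2 c
  rw [← hc, sub_add_cancel] at h3
  exact isUnit_of_mul_isUnit_left h3

include hB hρ in
theorem isLocalHom_ret : IsLocalHom ρ := ⟨fun b hb => isUnit_of_isUnit hB hρ b hb⟩

variable (R B)

include hB in
theorem isLocalRing [IsLocalRing R] : IsLocalRing B := by
  obtain ⟨ρ, hρ⟩ := exists_ret R B hB
  have := isLocalHom_ret hB hρ
  exact RingHom.domain_isLocalRing ρ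

include hB in
theorem henselianLocalRing [HenselianLocalRing R] [IsLocalRing B] : HenselianLocalRing B where
  is_henselian f hf a₀ h1 h2 := by
    obtain ⟨ρ, hρ⟩ := exists_ret R B hB
    have := isLocalHom_ret hB hρ
    have h3 : (f.map ρ).eval (ρ a₀) ∈ maximalIdeal R := by
      rw [Polynomial.eval_map, Polynomial.eval₂_at_apply]
      intro hu
      exact h1 (isUnit_of_isUnit hB hρ _ hu)
    have h4 : IsUnit ((f.map ρ).derivative.eval (ρ a₀)) := by
      rw [Polynomial.derivative_map, Polynomial.eval_map, Polynomial.eval₂_at_apply]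
      exact h2.map ρ
    obtain ⟨r, hr, hr2⟩ := HenselianLocalRing.is_henselian _ (hf.map ρ) _ h3 h4
    let a₁ : B := algebraMap R[X] B (Polynomial.C r)
    have ha₁ : ρ a₁ = r := hρ.const r
    have h5 : f.eval a₁ ∈ Ideal.span {algebraMap R[X] B Polynomial.X} := by
      rw [Ideal.mem_span_singleton]
      apply exists_mul_of_eq_zero hB hρ
      rw [← Polynomial.eval₂_at_apply, ← Polynomial.eval_map, ha₁]
      exact hr
    have h6 : IsUnit (f.derivative.eval a₁) := by
      apply isUnit_of_isUnit hB hρ
      rw [← Polynomial.eval₂_at_apply, ← Polynomial.eval_map, ha₁, ← Polynomial.derivative_map]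
      by_contra hcon
      have h7 : (f.map ρ).derivative.eval r - (f.map ρ).derivative.eval (ρ a₀) ∈ maximalIdeal R :=
        Ideal.mem_of_dvd _ (Polynomial.sub_dvd_eval_sub _ _ _) hr2
      have h8 : (f.map ρ).derivative.eval r ∈ maximalIdeal R := hcon
      have h9 := (maximalIdeal R).sub_mem h8 h7
      rw [sub_sub_cancel] at h9
      exact h9 h4
    have := henselianRing R B hB
    obtain ⟨a, ha, ha2⟩ := HenselianRing.is_henselian (I := Ideal.span {algebraMap R[X] B Polynomial.X})
      f hf a₁ h5 (h6.map _)
    refine ⟨a, ha, ?_⟩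
    intro hu
    have h7 : ρ (a - a₁) = 0 := by
      obtain ⟨c, hc⟩ := Ideal.mem_span_singleton.1 ha2
      rw [hc, map_mul, hρ.var, zero_mul]
    have h8 : ρ (a - a₀) = r - ρ a₀ := by
      have : a - a₀ = (a - a₁) + (a₁ - a₀) := by ring
      rw [this, map_add, h7, zero_add, map_sub, ha₁]
    have h9 := hu.map ρ
    rw [h8] at h9
    exact hr2 h9

/-- Separably closed fields are stable under isomorphism. -/
theorem isSepClosed_of_ringEquiv {k K : Type*} [Field k] [Field K] [IsSepClosed k] (e : K ≃+* k) :
    IsSepClosed K := by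
  apply IsSepClosed.of_exists_root
  intro p _ hirr hsep
  obtain ⟨x, hx⟩ := IsSepClosed.exists_eval₂_eq_zero e.toRingHom p
    (Polynomial.degree_pos_of_irreducible hirr).ne' hsep
  refine ⟨e.symm x, ?_⟩
  apply e.injective
  rw [map_zero]
  have h := Polynomial.hom_eval₂ p (RingHom.id K) e.toRingHom (e.symm x)
  have h2 : e.toRingHom (e.symm x) = x := e.apply_symm_apply x
  rw [h2, RingHom.comp_id, hx] at h
  exact h

include hB in
theorem residue_surj [IsLocalRing R] [IsLocalRing B] (y : ResidueField B) :
    ∃ r : R, residue B (algebraMap R[X] B (Polynomial.C r)) = y := by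
  obtain ⟨b, rfl⟩ := residue_surjective y
  obtain ⟨r, c, rfl⟩ := exists_eq R B hB b
  refine ⟨r, ?_⟩
  obtain ⟨ρ, hρ⟩ := exists_ret R B hB
  have h1 : residue B (algebraMap R[X] B Polynomial.X) = 0 := by
    rw [residue_eq_zero_iff]
    intro hu
    have := hu.map ρ
    rw [hρ.var] at this
    exact not_isUnit_zero this
  rw [map_add, map_mul, h1, zero_mul, add_zero]

include hB in
theorem isSepClosed [IsLocalRing R] [IsSepClosed (ResidueField R)] [IsLocalRing B] :
    IsSepClosed (ResidueField B) := by
  obtain ⟨ρ, hρ⟩ := exists_ret R B hB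
  have := isLocalHom_ret hB hρ
  have hs : Function.Surjective (ResidueField.map ρ) := by
    intro y
    obtain ⟨r, rfl⟩ := residue_surjective y
    exact ⟨residue B (algebraMap R[X] B (Polynomial.C r)), by
      rw [ResidueField.map_residue, hρ.const]⟩
  exact isSepClosed_of_ringEquiv (RingEquiv.ofBijective (ResidueField.map ρ)
    ⟨(ResidueField.map ρ).injective, hs⟩)

include hB in
/-- The henselization of `(R[X], X)` is a strict localization of the affine line. -/
theorem isStrictLoc [HenselianLocalRing R] [IsSepClosed (ResidueField R)] [IsLocalRing B] :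
    IsStrictLoc (spm (algebraMap R[X] B)) where
  henselian := henselianLocalRing R B hB
  sepClosed := isSepClosed R B hB
  sep := by
    obtain ⟨x, hx⟩ : ∃ x, (resPt B ≫ spm (algebraMap R[X] B)) (closedPoint (ResidueField B)) = x :=
      ⟨_, rfl⟩
    obtain ⟨i, hi⟩ := exists_residueField_hom (resPt B ≫ spm (algebraMap R[X] B)) x hx
    refine ⟨x, i, hi, ?_⟩
    obtain ⟨β, hβ⟩ := Spec.map_surjective ((Spec (CommRingCat.of R[X])).fromSpecResidueField x)
    rw [← hβ, ← spm_comp, ← Spec.map_comp] at hi
    have h1 := Spec.map_injective hi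
    intro y
    obtain ⟨r, rfl⟩ := residue_surj R B hB y
    refine ⟨Polynomial.X - Polynomial.C (β.hom (Polynomial.C r)), Polynomial.separable_X_sub_C, ?_⟩
    rw [Polynomial.eval₂_sub, Polynomial.eval₂_X, Polynomial.eval₂_C, sub_eq_zero]
    have h2 := congrArg (fun (t : CommRingCat.of R[X] ⟶ CommRingCat.of (ResidueField B)) =>
      t.hom (Polynomial.C r)) h1
    exact h2.symm
  universal := by
    intro T _ _ t τ h
    obtain ⟨f, rfl⟩ := Spec.map_surjective t
    have h1 : (residue T).comp f.hom = (τ.comp (residue B)).comp (algebraMap R[X] B) := by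
      rw [← Spec.map_comp, ← Spec.map_comp, ← Spec.map_comp] at h
      exact (congrArg CommRingCat.Hom.hom (Spec.map_injective h)).symm
    have h2 : HenselianRing T (maximalIdeal T) := inferInstance
    have hX : residue B (algebraMap R[X] B Polynomial.X) = 0 := by
      obtain ⟨ρ, hρ⟩ := exists_ret R B hB
      rw [residue_eq_zero_iff]
      intro hu
      have := hu.map ρ
      rw [hρ.var] at this
      exact not_isUnit_zero this
    obtain ⟨g, hg, hg2⟩ := hB.2 T (maximalIdeal T) f.hom h2 (by
      rw [Ideal.map_span, Set.image_singleton, Ideal.span_singleton_le_iff_mem, ← residue_eq_zero_iff]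
      have h3 := RingHom.congr_fun h1 Polynomial.X
      refine h3.trans ?_
      change τ (residue B (algebraMap R[X] B Polynomial.X)) = 0
      rw [hX, map_zero])
    refine ⟨g, ⟨?_, fun x => ?_⟩, ?_⟩
    · rw [← Spec.map_comp]
      congr 1
      ext1
      exact hg
    · obtain ⟨r, c, rfl⟩ := exists_eq R B hB x
      have h3 : ∀ p : R[X], g (algebraMap R[X] B p) = f.hom p := fun p => RingHom.congr_fun hg p
      have h4 : ∀ p : R[X], residue T (f.hom p) = τ (residue B (algebraMap R[X] B p)) :=
        fun p => RingHom.congr_fun h1 p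
      rw [map_add, map_mul, map_add, map_mul, h3, h3, h4, h4, map_add, map_mul, hX, zero_mul, add_zero,
        map_zero, zero_mul, add_zero]
    · rintro g' ⟨h3, -⟩
      apply hg2
      rw [← Spec.map_comp] at h3
      exact congrArg CommRingCat.Hom.hom (Spec.map_injective h3)

end Groth.Agent.EtCoh.K215.HStrict
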