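import Groth.Agent.EtCoh.K215.LKum

/-!
# The substitution `t ↦ t ^ N` on Laurent series is a Kummer algebra
-/

set_option autoImplicit false
universe u

open Groth.Agent.EtCoh.K215.LKum

namespace Groth.Agent.EtCoh.K215.LEmb

theorem mul_inj (N : ℕ) (hN : 0 < N) : Function.Injective (AddMonoidHom.mulLeft (N : ℤ)) := by
  intro a b h
  have h1 : (N : ℤ) * a = N * b := h
  exact mul_left_cancel₀ (by exact_mod_cast hN.ne') h1

theorem mul_mono (N : ℕ) (hN : 0 < N) (g g' : ℤ) :
    AddMonoidHom.mulLeft (N : ℤ) g ≤ AddMonoidHom.mulLeft (N : ℤ) g' ↔ g ≤ g' := by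
  change (N : ℤ) * g ≤ N * g' ↔ g ≤ g'
  exact mul_le_mul_iff_right₀ (by exact_mod_cast hN)

variable (R : Type u) [CommRing R]

/-- The substitution `t ↦ t ^ N`. -/
noncomputable def emb (N : ℕ) (hN : 0 < N) : LaurentSeries R →+* LaurentSeries R :=
  HahnSeries.embDomainRingHom (R := R) (AddMonoidHom.mulLeft (N : ℤ)) (mul_inj N hN) (mul_mono N hN)

variable {R}

theorem coeff_emb (N : ℕ) (hN : 0 < N) (x : LaurentSeries R) (q : ℤ) :
    (emb R N hN x).coeff (N * q) = x.coeff q :=
  HahnSeries.embDomain_mk_coeff (mul_inj N hN) (mul_mono N hN)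

theorem coeff_emb_of_not_dvd (N : ℕ) (hN : 0 < N) (x : LaurentSeries R) (n : ℤ) (hn : ¬ (N : ℤ) ∣ n) :
    (emb R N hN x).coeff n = 0 := by
  apply HahnSeries.embDomain_of_notMem_range
  rintro ⟨q, hq⟩
  exact hn ⟨q, hq.symm⟩

theorem emb_C (N : ℕ) (hN : 0 < N) (r : R) : emb R N hN (HahnSeries.C r) = HahnSeries.C r :=
  HahnSeries.embDomainRingHom_C

theorem emb_single (N : ℕ) (hN : 0 < N) (q : ℤ) (r : R) :
    emb R N hN (HahnSeries.single q r) = HahnSeries.single (N * q) r :=
  HahnSeries.embDomain_single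

/-- The variable. -/
noncomputable def T (R : Type u) [CommRing R] : LaurentSeries R := HahnSeries.single 1 1

theorem T_pow (n : ℕ) : T R ^ n = HahnSeries.single (n : ℤ) 1 := by
  rw [T, HahnSeries.single_pow, one_pow, nsmul_one]

theorem isUnit_T : IsUnit (T R) := by
  refine IsUnit.of_mul_eq_one (HahnSeries.single (-1) 1) ?_
  rw [T, HahnSeries.single_mul_single, mul_one, add_neg_cancel]
  rfl

theorem coeff_term (N : ℕ) (hN : 0 < N) (x : LaurentSeries R) (q : ℤ) (i r : Fin N) :
    (emb R N hN x * T R ^ (i : ℕ)).coeff (N * q + r) = if i = r then x.coeff q else 0 := by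
  rw [T_pow, HahnSeries.coeff_mul_single, mul_one]
  split_ifs with h
  · subst h
    rw [add_sub_cancel_right, coeff_emb]
  · apply coeff_emb_of_not_dvd
    rintro ⟨k, hk⟩
    have h1 : ((r : ℕ) : ℤ) - ((i : ℕ) : ℤ) = N * (k - q) := by rw [mul_sub, ← hk]; ring
    have h2 := i.2
    have h3 := r.2
    have h4 : (k - q) = 0 := by
      by_contra hne
      rcases lt_or_gt_of_ne hne with h5 | h5
      · have : (N : ℤ) * (k - q) ≤ N * (-1) := by
          apply mul_le_mul_of_nonneg_left <;> omega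
        omega
      · have : (N : ℤ) * 1 ≤ N * (k - q) := by
          apply mul_le_mul_of_nonneg_left <;> omega
        omega
    rw [h4, mul_zero] at h1
    exact h (Fin.ext (by omega))

theorem coeff_sum (N : ℕ) (hN : 0 < N) (c : Fin N → LaurentSeries R) (q : ℤ) (r : Fin N) :
    (∑ i, emb R N hN (c i) * T R ^ (i : ℕ)).coeff (N * q + r) = (c r).coeff q := by
  rw [HahnSeries.coeff_sum]
  rw [Finset.sum_congr rfl fun i _ => coeff_term N hN (c i) q i r]
  simp

theorem exists_unique (N : ℕ) (hN : 0 < N) (x : LaurentSeries R) :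
    ∃! c : Fin N → LaurentSeries R, x = ∑ i, emb R N hN (c i) * T R ^ (i : ℕ) := by
  have hN' : (0 : ℤ) < N := by exact_mod_cast hN
  have hb : ∀ r : Fin N, BddBelow (Function.support fun q : ℤ => x.coeff (N * q + r)) := by
    intro r
    have hM : ∀ n : ℤ, n < -(x.order.natAbs : ℤ) → x.coeff n = 0 := by
      intro n hn
      by_cases hx : x = 0
      · rw [hx]
        rfl
      · apply HahnSeries.coeff_eq_zero_of_lt_order
        omega
    refine ⟨-(x.order.natAbs : ℤ) - 1, fun q hq => ?_⟩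
    by_contra hcon
    apply hq
    apply hM
    have h1 := r.2
    have h2 : (N : ℤ) * (q + 1) ≤ 1 * (q + 1) := by
      apply mul_le_mul_of_nonpos_right <;> omega
    have h3 : (N : ℤ) * (q + 1) = N * q + N := by ring
    omega
  refine ⟨fun r => HahnSeries.ofSuppBddBelow _ (hb r), ?_, ?_⟩
  · ext n
    have h1 : n = N * (n / N) + ((⟨(n % N).toNat, by
        have := Int.emod_lt_of_pos n hN'
        have := Int.emod_nonneg n hN'.ne'
        omega⟩ : Fin N) : ℕ) := by
      change n = N * (n / N) + ((n % N).toNat : ℤ)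
      rw [Int.toNat_of_nonneg (Int.emod_nonneg n hN'.ne'), Int.mul_ediv_add_emod]
    rw [h1, coeff_sum, HahnSeries.coeff_ofSuppBddBelow]
  · intro c hc
    funext r
    ext q
    rw [HahnSeries.coeff_ofSuppBddBelow, hc, coeff_sum]

/-- The substitution `t ↦ t ^ N` is a Kummer algebra. -/
theorem isKum (N : ℕ) (hN : 0 < N) :
    @IsKum (LaurentSeries R) (LaurentSeries R) _ _ (emb R N hN).toAlgebra N (T R) (T R) := by
  letI : Algebra (LaurentSeries R) (LaurentSeries R) := (emb R N hN).toAlgebra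
  refine ⟨hN, ?_, fun x => ?_⟩
  · change _ = emb R N hN (T R)
    rw [T_pow, T, emb_single, mul_one]
  · obtain ⟨c, hc, hc'⟩ := exists_unique N hN x
    refine ⟨c, ?_, fun d hd => hc' d ?_⟩
    · exact hc
    · exact hd

theorem isUnit_natCast (N : ℕ) (hN : IsUnit (N : R)) : IsUnit (N : LaurentSeries R) := by
  have := hN.map (HahnSeries.C : R →+* LaurentSeries R)
  rwa [map_natCast] at this

end Groth.Agent.EtCoh.K215.LEmb
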