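import Mathlib.RingTheory.LaurentSeries
import Mathlib.AlgebraicGeometry.Morphisms.FlatRank
import Mathlib.AlgebraicGeometry.Morphisms.Etale
import Mathlib.RingTheory.RootsOfUnity.AlgebraicallyClosed
import Mathlib.GroupTheory.PGroup
import Mathlib.RingTheory.Henselian
import Mathlib.FieldTheory.IsSepClosed
import Mathlib.RingTheory.Etale.StandardEtale
import Groth.Agent.Fixpt.H628.SylRing

/-!
# Kummer algebras `A[b]`, `b ^ N = u` free on `1, b, …, b ^ (N - 1)`
-/

set_option autoImplicit false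
universe u

open Polynomial

namespace Groth.Agent.EtCoh.K215.LKum

section gen

/-- `B = A[b]`, `b ^ N = u`, free with basis `1, …, b ^ (N - 1)`. -/
structure IsKum (A B : Type u) [CommRing A] [CommRing B] [Algebra A B] (N : ℕ) (u : A) (b : B) :
    Prop where
  pos : 0 < N
  pow : b ^ N = algebraMap A B u
  basis : ∀ x : B, ∃! c : Fin N → A, x = ∑ i, c i • b ^ (i : ℕ)

variable {A B : Type u} [CommRing A] [CommRing B] [Algebra A B]

theorem bijective_of_basis (g : A[X]) (hg : g.Monic) (N : ℕ) (hN : g.natDegree = N) (b : B)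
    (f : AdjoinRoot g →ₐ[A] B) (hf : f (AdjoinRoot.root g) = b)
    (h : ∀ x : B, ∃! c : Fin N → A, x = ∑ i, c i • b ^ (i : ℕ)) : Function.Bijective f := by
  subst hN
  let P := AdjoinRoot.powerBasis' hg
  have key : ∀ x : AdjoinRoot g, ∃ c : Fin g.natDegree → A,
      x = ∑ i, c i • (AdjoinRoot.root g) ^ (i : ℕ) := by
    intro x
    refine ⟨fun i => P.basis.repr x i, ?_⟩
    conv_lhs => rw [← P.basis.sum_repr x]
    refine Finset.sum_congr rfl fun i _ => ?_
    rw [P.basis_eq_pow]
    rfl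
  have key2 : ∀ c : Fin g.natDegree → A,
      f (∑ i, c i • (AdjoinRoot.root g) ^ (i : ℕ)) = ∑ i, c i • b ^ (i : ℕ) := by
    intro c
    rw [map_sum]
    refine Finset.sum_congr rfl fun i _ => ?_
    rw [map_smul, map_pow, hf]
  constructor
  · rw [injective_iff_map_eq_zero]
    intro x hx
    obtain ⟨c, rfl⟩ := key x
    rw [key2] at hx
    obtain ⟨d, -, hd⟩ := h 0
    have h1 := hd c hx.symm
    have h2 := hd 0 (by simp)
    rw [h1, ← h2]
    simp
  · intro y
    obtain ⟨c, hc, -⟩ := h y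
    exact ⟨_, (key2 c).trans hc.symm⟩

/-- `R[X]/(f)` is étale over `R` for `f` monic and separable. -/
theorem etale_adjoinRoot {R : Type*} [CommRing R] (f : R[X]) (hf : f.Monic)
    (hs : f.Separable) : Algebra.Etale R (AdjoinRoot f) := by
  obtain ⟨a, b, hab⟩ := hs
  let P : StandardEtalePair R := ⟨f, hf, 1, b, a, 0, by rw [pow_zero]; linear_combination hab⟩
  have h1 : IsUnit (AdjoinRoot.mk P.f P.g) := by
    change IsUnit (AdjoinRoot.mk f 1)
    simp
  let e : AdjoinRoot f ≃ₐ[AdjoinRoot f] Localization.Away (AdjoinRoot.mk P.f P.g) :=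
    IsLocalization.atUnit (AdjoinRoot f) _ _ h1
  exact .of_equiv (P.equivAwayAdjoinRoot.trans (e.restrictScalars R).symm)

variable {N : ℕ} {u : A} {b : B}

theorem IsKum.exists_equiv (h : IsKum A B N u b) :
    ∃ e : AdjoinRoot (X ^ N - C u : A[X]) ≃ₐ[A] B, e (AdjoinRoot.root _) = b := by
  have hm : (X ^ N - C u : A[X]).Monic := monic_X_pow_sub_C u h.pos.ne'
  have h0 : (X ^ N - C u : A[X]).eval₂ (Algebra.ofId A B : A →+* B) b = 0 := by
    rw [eval₂_sub, eval₂_X_pow, eval₂_C, h.pow, sub_eq_zero]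
    rfl
  let f : AdjoinRoot (X ^ N - C u : A[X]) →ₐ[A] B :=
    AdjoinRoot.liftAlgHom _ (Algebra.ofId A B) b h0
  have hf : f (AdjoinRoot.root _) = b := AdjoinRoot.liftAlgHom_root _ _ _ _
  have hb : Function.Bijective f := by
    rcases subsingleton_or_nontrivial A with hA | hA
    · have : Subsingleton (AdjoinRoot (X ^ N - C u : A[X])) := by
        refine ⟨fun x y => ?_⟩
        rw [← one_mul x, ← one_mul y, ← map_one (algebraMap A _), Subsingleton.elim (1 : A) 0, map_zero,
          zero_mul, zero_mul]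
      have : Subsingleton B := by
        refine ⟨fun x y => ?_⟩
        rw [← one_mul x, ← one_mul y, ← map_one (algebraMap A B), Subsingleton.elim (1 : A) 0, map_zero,
          zero_mul, zero_mul]
      exact ⟨fun x y _ => Subsingleton.elim _ _, fun y => ⟨0, Subsingleton.elim _ _⟩⟩
    · exact bijective_of_basis _ hm N natDegree_X_pow_sub_C b f hf h.basis
  exact ⟨AlgEquiv.ofBijective f hb, hf⟩

theorem IsKum.free (h : IsKum A B N u b) : Module.Free A B ∧ Module.Finite A B := by
  obtain ⟨e, -⟩ := h.exists_equiv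
  have hm : (X ^ N - C u : A[X]).Monic := monic_X_pow_sub_C u h.pos.ne'
  have h1 := hm.free_adjoinRoot
  have h2 := hm.finite_adjoinRoot
  exact ⟨Module.Free.of_equiv e.toLinearEquiv, Module.Finite.equiv e.toLinearEquiv⟩

theorem IsKum.finrank [Nontrivial A] (h : IsKum A B N u b) : Module.finrank A B = N := by
  obtain ⟨e, -⟩ := h.exists_equiv
  have hm : (X ^ N - C u : A[X]).Monic := monic_X_pow_sub_C u h.pos.ne'
  rw [← e.toLinearEquiv.finrank_eq, (AdjoinRoot.powerBasis' hm).finrank]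
  exact natDegree_X_pow_sub_C

theorem IsKum.etale (h : IsKum A B N u b) (hu : IsUnit u) (hN : IsUnit (N : A)) :
    Algebra.Etale A B := by
  obtain ⟨e, -⟩ := h.exists_equiv
  have hm : (X ^ N - C u : A[X]).Monic := monic_X_pow_sub_C u h.pos.ne'
  have hs : (X ^ N - C u : A[X]).Separable := by
    obtain ⟨v, rfl⟩ := hu
    exact Polynomial.separable_X_pow_sub_C_unit v hN
  have := etale_adjoinRoot _ hm hs
  exact .of_equiv e

/-- Homomorphisms out of a Kummer algebra. -/
theorem IsKum.exists_lift (h : IsKum A B N u b) {C' : Type*} [CommRing C'] [Algebra A C'] (c : C')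
    (hc : c ^ N = algebraMap A C' u) : ∃ f : B →ₐ[A] C', f b = c := by
  obtain ⟨e, he⟩ := h.exists_equiv
  have h0 : (X ^ N - C u : A[X]).eval₂ (Algebra.ofId A C' : A →+* C') c = 0 := by
    rw [eval₂_sub, eval₂_X_pow, eval₂_C, hc, sub_eq_zero]
    rfl
  refine ⟨(AdjoinRoot.liftAlgHom _ (Algebra.ofId A C') c h0).comp (e.symm : B →ₐ[A] _), ?_⟩
  have h1 : e.symm b = AdjoinRoot.root _ := by rw [← he, e.symm_apply_apply]
  change AdjoinRoot.liftAlgHom _ (Algebra.ofId A C') c h0 (e.symm b) = c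
  rw [h1]
  exact AdjoinRoot.liftAlgHom_root _ _ _ _

theorem IsKum.hom_ext (h : IsKum A B N u b) {C' : Type*} [CommRing C'] {f g : B →+* C'}
    (h1 : f.comp (algebraMap A B) = g.comp (algebraMap A B)) (h2 : f b = g b) : f = g := by
  ext x
  obtain ⟨c, rfl, -⟩ := h.basis x
  rw [map_sum, map_sum]
  refine Finset.sum_congr rfl fun i _ => ?_
  rw [Algebra.smul_def, map_mul, map_mul, map_pow, map_pow, h2]
  congr 1
  exact RingHom.congr_fun h1 _

theorem IsKum.algHom_ext (h : IsKum A B N u b) {C' : Type*} [CommRing C'] [Algebra A C']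
    {f g : B →ₐ[A] C'} (h2 : f b = g b) : f = g := by
  apply AlgHom.coe_ringHom_injective
  refine h.hom_ext ?_ h2
  ext x
  change f (algebraMap A B x) = g (algebraMap A B x)
  rw [AlgHom.commutes, AlgHom.commutes]

end gen

section gal

open Groth.Agent.Fixpt.H628.SylRing

variable {R A B : Type u} [CommRing R] [CommRing A] [CommRing B] [Algebra R A] [Algebra A B]
  [Algebra R B] [IsScalarTower R A B] {N : ℕ} {u : A} {b : B}

/-- A Kummer algebra is Galois. -/
theorem IsKum.isGalGrp (h : IsKum A B N u b) (hu : IsUnit u) (ζ : Rˣ) (hζ : ζ ^ N = 1)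
    (hζu : ∀ i : ℕ, 0 < i → i < N → IsUnit ((ζ : R) ^ i - 1)) :
    IsGalGrp (Subgroup.zpowers ζ) A B := by
  have hG : ∀ g : Subgroup.zpowers ζ, ∃ i < N, g.1 = ζ ^ i := by
    intro g
    obtain ⟨z, hz⟩ := Subgroup.mem_zpowers_iff.1 g.2
    have hNz : (0 : ℤ) < N := by exact_mod_cast h.pos
    refine ⟨(z % N).toNat, ?_, ?_⟩
    · have := Int.emod_lt_of_pos z hNz
      have := Int.emod_nonneg z hNz.ne'
      omega
    · rw [← hz, ← zpow_natCast, Int.toNat_of_nonneg (Int.emod_nonneg z hNz.ne')]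
      conv_lhs => rw [← Int.emod_add_mul_ediv z N, zpow_add, zpow_mul, zpow_natCast, hζ, one_zpow, mul_one]
  have hGN : ∀ g : Subgroup.zpowers ζ, (g.1 : R) ^ N = 1 := by
    intro g
    obtain ⟨i, -, hi⟩ := hG g
    rw [hi, Units.val_pow_eq_pow_val, ← pow_mul, mul_comm, pow_mul, ← Units.val_pow_eq_pow_val, hζ,
      Units.val_one, one_pow]
  have hex : ∀ g : Subgroup.zpowers ζ, ∃ f : B →ₐ[A] B, f b = algebraMap R B (g.1 : R) * b := by
    intro g
    refine h.exists_lift _ ?_
    rw [mul_pow, h.pow, ← map_pow, hGN, map_one, one_mul]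
  choose σ hσ using hex
  refine ⟨σ, ?_, ?_, ?_⟩
  · refine h.algHom_ext ?_
    rw [hσ]
    simp
  · intro g g'
    refine h.algHom_ext ?_
    have h1 : ∀ r : R, σ g (algebraMap R B r) = algebraMap R B r := by
      intro r
      rw [IsScalarTower.algebraMap_apply R A B, AlgHom.commutes]
    rw [AlgHom.comp_apply, hσ, hσ, map_mul, hσ, h1, Subgroup.coe_mul, Units.val_mul, map_mul]
    ring
  · intro Ω _ t t' htt
    have hA : ∀ a : A, t (algebraMap A B a) = t' (algebraMap A B a) := fun a => RingHom.congr_fun htt a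
    have hR : ∀ r : R, t (algebraMap R B r) = t' (algebraMap R B r) := by
      intro r
      rw [IsScalarTower.algebraMap_apply R A B]
      exact hA _
    have hb0 : t b ≠ 0 := by
      intro h0
      have h1 : t (b ^ N) = 0 := by rw [map_pow, h0, zero_pow h.pos.ne']
      rw [h.pow] at h1
      exact ((hu.map (algebraMap A B)).map t).ne_zero h1
    have hζΩ : IsPrimitiveRoot (t (algebraMap R B (ζ : R))) N := by
      refine IsPrimitiveRoot.mk_of_lt _ h.pos ?_ fun l hl hlN hl1 => ?_
      · rw [← map_pow, ← map_pow, ← Units.val_pow_eq_pow_val, hζ, Units.val_one, map_one, map_one]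
      · have h1 := (((hζu l hl hlN).map (algebraMap R B)).map t).ne_zero
        rw [map_sub, map_sub, map_pow, map_pow, hl1, map_one, map_one, sub_self] at h1
        exact h1 rfl
    have : NeZero N := ⟨h.pos.ne'⟩
    obtain ⟨i, hi, hi2⟩ := hζΩ.eq_pow_of_pow_eq_one (ξ := t' b / t b) (by
      rw [div_pow, ← map_pow, ← map_pow, h.pow, ← hA, div_self]
      rw [← h.pow, map_pow]
      exact pow_ne_zero _ hb0)
    refine ⟨⟨ζ ^ i, Subgroup.npow_mem_zpowers ζ i⟩, ?_, ?_⟩
    · refine h.hom_ext ?_ ?_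
      · ext a
        change t' (algebraMap A B a) = t (σ _ (algebraMap A B a))
        rw [AlgHom.commutes, hA]
      · change t' b = t (σ _ b)
        rw [hσ, map_mul, Units.val_pow_eq_pow_val, map_pow, map_pow, hi2, div_mul_cancel₀ _ hb0]
    · intro g hg
      obtain ⟨j, hj, hj2⟩ := hG g
      apply Subtype.ext
      change g.1 = ζ ^ i
      rw [hj2]
      have h1 : t' b = t (σ g b) := RingHom.congr_fun hg b
      rw [hσ, map_mul, hj2, Units.val_pow_eq_pow_val, map_pow, map_pow] at h1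
      have h2 : t (algebraMap R B (ζ : R)) ^ j = t (algebraMap R B (ζ : R)) ^ i := by
        rw [hi2, h1, mul_div_cancel_right₀ _ hb0]
      rw [hζΩ.pow_inj hj hi h2]

theorem finite_zpowers (ζ : Rˣ) (hN : 0 < N) (hζ : ζ ^ N = 1) : Finite (Subgroup.zpowers ζ) := by
  exact Set.finite_coe_iff.2 (_root_.finite_zpowers.2 (isOfFinOrder_iff_pow_eq_one.2 ⟨N, hN, hζ⟩))

theorem isPGroup_zpowers (ζ : Rˣ) (ℓ a : ℕ) (hζ : ζ ^ (ℓ ^ a) = 1) :
    IsPGroup ℓ (Subgroup.zpowers ζ) := by
  intro g
  refine ⟨a, Subtype.ext ?_⟩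
  obtain ⟨z, hz⟩ := Subgroup.mem_zpowers_iff.1 g.2
  change g.1 ^ (ℓ ^ a) = 1
  rw [← hz, ← zpow_natCast, ← zpow_mul, mul_comm, zpow_mul, zpow_natCast, hζ, one_zpow]

end gal

section root

open IsLocalRing

/-- Roots of unity of order invertible in a strictly henselian local ring. -/
theorem exists_zeta (R : Type u) [CommRing R] [HenselianLocalRing R]
    [IsSepClosed (ResidueField R)] (m : ℕ) (hm : IsUnit (m : R)) :
    ∃ ζ : Rˣ, ζ ^ m = 1 ∧ ∀ i : ℕ, 0 < i → i < m → IsUnit ((ζ : R) ^ i - 1) := by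
  have hm0 : m ≠ 0 := by
    rintro rfl
    simp at hm
  have hmk : NeZero (m : ResidueField R) := by
    constructor
    have := hm.map (residue R)
    rw [map_natCast] at this
    exact this.ne_zero
  obtain ⟨z, hz⟩ := (IsSepClosed.hasEnoughRootsOfUnity (ResidueField R) m).prim
  obtain ⟨b₀, hb₀⟩ := residue_surjective z
  have hmon : (X ^ m - C (1 : R)).Monic := monic_X_pow_sub_C _ hm0
  have h3 : (X ^ m - C (1 : R)).eval b₀ ∈ maximalIdeal R := by
    rw [← residue_eq_zero_iff]
    simp [hb₀, hz.pow_eq_one]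
  have hbu : IsUnit b₀ := by
    by_contra hcon
    have : residue R b₀ = 0 := by
      rw [residue_eq_zero_iff]
      exact hcon
    rw [hb₀] at this
    exact hz.isUnit hm0 |>.ne_zero this
  have h4 : IsUnit ((X ^ m - C (1 : R)).derivative.eval b₀) := by
    simp only [derivative_sub, derivative_X_pow, derivative_C, sub_zero, eval_mul, eval_natCast,
      eval_pow, eval_X, map_natCast]
    exact hm.mul (hbu.pow _)
  obtain ⟨b, hb, hbb⟩ := HenselianLocalRing.is_henselian _ hmon b₀ h3 h4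
  have h5 : residue R b = z := by
    rw [← hb₀, ← sub_eq_zero, ← map_sub, residue_eq_zero_iff]
    exact hbb
  have h6 : b ^ m = 1 := by simpa [IsRoot.def, sub_eq_zero] using hb
  refine ⟨Units.ofPowEqOne b m h6 hm0, ?_, fun i hi him => ?_⟩
  · ext
    rw [Units.val_pow_eq_pow_val]
    exact h6
  · by_contra hcon
    have h7 : residue R (b ^ i - 1) = 0 := by
      rw [residue_eq_zero_iff]
      exact hcon
    rw [map_sub, map_pow, h5, map_one, sub_eq_zero] at h7
    have := Nat.le_of_dvd hi (hz.dvd_of_pow_eq_one _ h7)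
    omega

end root

end Groth.Agent.EtCoh.K215.LKum
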