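import Groth.Agent.EtCoh.K215.Dev
import Mathlib.Data.Nat.Factorization.Induction

/-!
# Vanishing for abelian sheaves trivialised by `t ↦ t ^ d`, from the case of constant sheaves
-/

set_option autoImplicit false
universe u
open CategoryTheory CategoryTheory.Limits AlgebraicGeometry Opposite Abelian
open scoped Groth.Agent.Etcore.EtInst

namespace Groth.Agent.EtCoh.K215.Main

open Groth.Agent.Etcore.EtInst Groth.Agent.Etcore.HpullCalc
open Groth.Agent.Fixpt.H628.GalUni Groth.Agent.Fixpt.H628.SylGeo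
open Groth.Agent.EtCoh.K215.CstAb Groth.Agent.EtCoh.K215.Dev Groth.Agent.EtCoh.K215.LGal
open Groth.Agent.EtCoh.K215.LKum EtShriek

theorem cst_congr {V X : Scheme.{u}} {F : EtCoh.Ab X} {q q' : V ⟶ X} [hq : Etale q] [hq' : Etale q']
    (h : q = q') (hc : CstV F (obj q)) (hf : Finite (EtCoh.sect F (obj q))) :
    CstV F (obj q') ∧ Finite (EtCoh.sect F (obj q')) := by
  subst h
  exact ⟨hc, hf⟩

variable (R : Type u) [CommRing R] [HenselianLocalRing R] [IsSepClosed (IsLocalRing.ResidueField R)]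
  (d : ℕ) (hd : 0 < d) (hdu : IsUnit (d : R))

/-- The case of sheaves killed by a prime. -/
theorem prime_case [Etale (phi R d hd)] (ℓ : ℕ) [Fact ℓ.Prime] (hℓ : IsUnit (ℓ : R)) (hdu : IsUnit (d : R))
    (F : EtCoh.Ab (Z R)) (hF : EtCoh.KilledBy ℓ F) (h : CstV F (obj (phi R d hd)))
    (hfin : Finite (EtCoh.sect F (obj (phi R d hd)))) (i : ℕ)
    (hc : Subsingleton (HH (Z R) (EtCoh.const (Z R) (ZMod ℓ)) i)) : Subsingleton (HH (Z R) F i) := by
  have hp : ℓ.Prime := Fact.out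
  obtain ⟨a, d', hd', rfl⟩ := Nat.exists_eq_pow_mul_and_not_dvd hd.ne' ℓ hp.ne_one
  have h0 : 0 < d' := Nat.pos_of_ne_zero fun h0 => hd' (h0 ▸ dvd_zero _)
  have h1 : 0 < ℓ ^ a := pow_pos hp.pos _
  rw [Nat.cast_mul] at hdu
  have hu1 : IsUnit ((ℓ ^ a : ℕ) : R) := isUnit_of_mul_isUnit_left hdu
  have hu2 : IsUnit (d' : R) := isUnit_of_mul_isUnit_right hdu
  have e1 := etale_phi R d' h0 hu2
  have e2 := etale_phi R (ℓ ^ a) h1 hu1
  obtain ⟨hc1, hf1⟩ := cst_congr (q := phi R (ℓ ^ a * d') hd) (q' := phi R (ℓ ^ a) h1 ≫ phi R d' h0)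
    (phi_comp R d' h0 (ℓ ^ a) h1 hd).symm h hfin
  obtain ⟨ζ, hζ, hζu⟩ := exists_zeta R (ℓ ^ a) hu1
  have hgal := isGalHomGrp_phi R (ℓ ^ a) h1 ζ hζ hζu
  have hfinG := finite_zpowers ζ h1 hζ
  have hs := surjective_phi R (ℓ ^ a) h1
  refine subsingleton_of_transfer (phi R d' h0) F d' (finrank_phi R d' h0) ℓ
    ((Nat.Prime.coprime_iff_not_dvd hp).2 hd').symm hF i ?_
  exact subsingleton_of_cstV ℓ (phi R (ℓ ^ a) h1) (isPGroup_zpowers ζ ℓ a hζ) hgal _
    (killedBy_restr (phi R d' h0) F hF)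
    (cstV_restr (phi R d' h0) F (V' := obj (phi R (ℓ ^ a) h1)) hc1) hf1 i hc

/-- The general case. -/
theorem main [Etale (phi R d hd)] (i : ℕ)
    (hc : ∀ ℓ : ℕ, ℓ.Prime → IsUnit (ℓ : R) → Subsingleton (HH (Z R) (EtCoh.const (Z R) (ZMod ℓ)) i))
    (hdu : IsUnit (d : R)) (n : ℕ) : IsUnit (n : R) →
    ∀ (F : EtCoh.Ab (Z R)), EtCoh.KilledBy n F → CstV F (obj (phi R d hd)) →
      Finite (EtCoh.sect F (obj (phi R d hd))) → Subsingleton (HH (Z R) F i) := by
  induction n using induction_on_primes with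
  | zero =>
    intro hn
    rw [Nat.cast_zero] at hn
    exact absurd hn not_isUnit_zero
  | one =>
    intro _ F hF _ _
    refine ⟨fun x y => ?_⟩
    have key : ∀ x : HH (Z R) F i, x = 0 := by
      intro x
      rw [← one_smul ℕ x]
      exact Groth.Agent.Sga4h.NcTransfer.nsmul_eq_zero 1 F hF i x
    rw [key x, key y]
  | prime_mul p a hp ih =>
    intro hn F hF h hfin
    rw [Nat.cast_mul] at hn
    have hu1 : IsUnit (p : R) := isUnit_of_mul_isUnit_left hn
    have hu2 : IsUnit (a : R) := isUnit_of_mul_isUnit_right hn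
    obtain ⟨S, hS, e, k1, k3, c1, c3, f1, f3⟩ := exists_shortExact h hfin p a hF
    have : Fact p.Prime := ⟨hp⟩
    exact subsingleton_of_iso e i (subsingleton_of_shortExact hS i
      (prime_case R d hd p hu1 hdu S.X₁ k1 c1 f1 i (hc p hp hu1)) (ih hu2 S.X₃ k3 c3 f3))

end Groth.Agent.EtCoh.K215.Main
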